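import Cfsg.Agent.CoOneSection.Frame
import Cfsg.Agent.Forms.SmallOrth

/-!
The commutator subgroups of the two small orthogonal groups of minus type: index two, simple, trivial centre.
-/

set_option autoImplicit false

namespace CfsgLib.CoOneSection

open Cfsg CfsgLib.Spinor CfsgLib.StdForms

theorem omega_six :
    (Cfsg.Omega (ZMod 2) ⇑(QW 2)).index = 2 ∧ IsSimpleGroup (Cfsg.Omega (ZMod 2) ⇑(QW 2)) ∧
      Subgroup.center (Cfsg.Omega (ZMod 2) ⇑(QW 2)) = ⊥ := by
  have hnd : (QuadraticMap.polarBilin (QW 2)).Nondegenerate := minusQ_nondegenerate 2 (by decide)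
  have hn : 5 ≤ Fintype.card (IW 2) := by simp
  have P : CfsgLib.Forms4.TwoPairs (QW 2) := CfsgLib.Forms4.minusPairs 2 le_rfl 1 1
  have hc : Subgroup.center (Cfsg.Omega (ZMod 2) ⇑(QW 2)) = ⊥ :=
    Subgroup.card_eq_one.1 (CfsgLib.Forms4.card_center_omega_one hnd hn P fun _ _ _ => by decide)
  refine ⟨CfsgLib.Forms.index_omega_charTwo hnd (by simp) (Or.inr (by simp)), ?_, hc⟩
  have := P.isSimpleGroup_pOmega hnd hn
  exact (QuotientGroup.quotientBot.symm.trans (QuotientGroup.quotientMulEquivOfEq hc.symm) :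
    Cfsg.Omega (ZMod 2) ⇑(QW 2) ≃* Cfsg.POmega (ZMod 2) ⇑(QW 2)).isSimpleGroup

theorem omega_four :
    (Cfsg.Omega (ZMod 2) ⇑(QW 1)).index = 2 ∧ IsSimpleGroup (Cfsg.Omega (ZMod 2) ⇑(QW 1)) ∧
      Subgroup.center (Cfsg.Omega (ZMod 2) ⇑(QW 1)) = ⊥ := by
  rw [coe_minusQ]
  obtain ⟨e⟩ := CfsgLib.Forms.o_minus_four_two
  have hmap : (commutator ↥(Cfsg.isometryGroup (ZMod 2) (Cfsg.quadFormMinus 1 (ZMod 2) 1 1))).map
      e.toMonoidHom = alternatingGroup (Fin 5) := by
    rw [commutator_def, Subgroup.map_commutator, Subgroup.map_top_of_surjective _ e.surjective,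
      ← commutator_def, alternatingGroup.commutator_perm_eq (by simp)]
  have e' : ↥(Cfsg.Omega (ZMod 2) (Cfsg.quadFormMinus 1 (ZMod 2) 1 1)) ≃* alternatingGroup (Fin 5) :=
    (e.subgroupMap _).trans (MulEquiv.subgroupCongr hmap)
  have hs : IsSimpleGroup ↥(Cfsg.Omega (ZMod 2) (Cfsg.quadFormMinus 1 (ZMod 2) 1 1)) :=
    have := alternatingGroup.isSimpleGroup_five
    e'.isSimpleGroup
  refine ⟨?_, hs, ?_⟩
  · rw [← Subgroup.index_map_equiv _ e]
    show ((commutator ↥(Cfsg.isometryGroup (ZMod 2) (Cfsg.quadFormMinus 1 (ZMod 2) 1 1))).map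
      e.toMonoidHom).index = 2
    rw [hmap]
    exact alternatingGroup.index_eq_two
  · refine Subgroup.card_eq_one.1 ?_
    rw [Nat.card_congr (Subgroup.centerCongr e').toEquiv, Subgroup.card_eq_one]
    exact alternatingGroup.center_eq_bot (by simp)

end CfsgLib.CoOneSection
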