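import Cfsg.Agent.CoOneSection.Quotient

/-!
Section data from move lists and bit codes.
-/

set_option autoImplicit false

namespace CfsgLib.CoOneSection

open Cfsg CfsgLib.Mathieu CfsgLib.Leech CfsgLib.CoOneInv
open scoped Matrix

/-- The number of a coordinate of the eight. -/
def ixI : I8 → ℕ := Sum.elim (fun i => i.val) fun i => i.val + 4

/-- The number of an adapted coordinate. -/
def ixW (m d : ℕ) : IW m ⊕ Fin d → ℕ :=
  Sum.elim (Sum.elim (Sum.elim (fun i => i.val) fun i => m + i.val) fun i => 2 * m + i.val)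
    fun i => 2 * m + 2 + i.val

/-- A matrix from its columns as bit codes. -/
def codeMat {ι κ : Type} (ri : ι → ℕ) (ci : κ → ℕ) (cols : List ℕ) : Matrix ι κ (ZMod 2) :=
  Matrix.of fun i j => if (cols.getD (ci j) 0).testBit (ri i) then 1 else 0

/-- The checks on moves. -/
def dataOK (r : ℕ) (aM gM : List Mv) (ys : List (Fin 16 × Fin 32)) (k : Fin 16 × Fin 32) : Bool :=
  movesOK aM && (gM.all Mv.ok) && sameMoves (List.replicate r aM).flatten [] &&
    ((List.range 8).all fun c =>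
      sameMoves ([kMv (kBasis (if c < 4 then .inl (Fin.ofNat 4 c) else .inr (Fin.ofNat 4 (c - 4))))] ++ aM)
        (aM ++ [kMv (ys.getD c (0, 0))])) &&
    sameMoves (aM ++ gM) (gM ++ aM) && sameMoves ([epsMv] ++ gM) (gM ++ [kMv k])

/-- The matrix of the element. -/
def aMat (ys : List (Fin 16 × Fin 32)) : Matrix I8 I8 (ZMod 2) :=
  Matrix.of fun r c => kCoord (ys.getD (ixI c) (0, 0)) r

/-- The checks on matrices. -/
structure algOK (m d r : ℕ) (ys : List (Fin 16 × Fin 32)) (pC rC aC : List ℕ) : Prop where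
  PR : codeMat ixI (ixW m d) pC * codeMat (ixW m d) ixI rC = 1
  RP : codeMat (ixW m d) ixI rC * codeMat ixI (ixW m d) pC = 1
  hA : codeMat (ixW m d) ixI rC * aMat ys * codeMat ixI (ixW m d) pC =
    blk (1 : Matrix (IW m) (IW m) (ZMod 2)) (codeMat Fin.val Fin.val aC)
  quad : ∀ u : IW m → ZMod 2, ∀ v : Fin d → ZMod 2,
    Cfsg.quadFormPlus 4 (ZMod 2) (codeMat ixI (ixW m d) pC *ᵥ Sum.elim u v) =
      Cfsg.quadFormMinus m (ZMod 2) 1 1 u +
        Cfsg.quadFormPlus 4 (ZMod 2) (codeMat ixI (ixW m d) pC *ᵥ Sum.elim 0 v)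
  sum_A : ∑ i : Fin r, (codeMat Fin.val Fin.val aC : Matrix (Fin d) (Fin d) (ZMod 2)) ^ (i : ℕ) = 0
  ne_one : (codeMat Fin.val Fin.val aC : Matrix (Fin d) (Fin d) (ZMod 2)) ≠ 1
  cyc : ∀ j i : Fin d, ((codeMat Fin.val Fin.val aC : Matrix (Fin d) (Fin d) (ZMod 2)) ^ (j : ℕ)) i
    ⟨0, Nat.lt_of_le_of_lt (Nat.zero_le _) j.2⟩ = if i = j then 1 else 0
  cent : ∀ c : Fin d → ZMod 2,
    (∀ v : Fin d → ZMod 2, Cfsg.quadFormPlus 4 (ZMod 2) (codeMat ixI (ixW m d) pC *ᵥ Sum.elim 0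
      ((Matrix.of fun i (j : Fin d) => (((codeMat Fin.val Fin.val aC : Matrix (Fin d) (Fin d) (ZMod 2)) ^
        (j : ℕ)) *ᵥ c) i) *ᵥ v)) =
      Cfsg.quadFormPlus 4 (ZMod 2) (codeMat ixI (ixW m d) pC *ᵥ Sum.elim 0 v)) →
    ∃ k : Fin r, (Matrix.of fun i (j : Fin d) => (((codeMat Fin.val Fin.val aC :
      Matrix (Fin d) (Fin d) (ZMod 2)) ^ (j : ℕ)) *ᵥ c) i) =
        (codeMat Fin.val Fin.val aC : Matrix (Fin d) (Fin d) (ZMod 2)) ^ (k : ℕ)
  irr : ∀ x : IW m → ZMod 2, x ≠ 0 →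
    (∃ v, Cfsg.quadFormMinus m (ZMod 2) 1 1 v = 1 ∧ polW m x v = 0) ∧
      ∀ e, Cfsg.quadFormMinus m (ZMod 2) 1 1 e = 1 → polW m x e = 1 ∨
        ∃ u, Cfsg.quadFormMinus m (ZMod 2) 1 1 u = 1 ∧ polW m x u = 1 ∧ polW m u e = 1
  two_sum : ∀ e : IW m → ZMod 2, ∃ u, Cfsg.quadFormMinus m (ZMod 2) 1 1 u = 1 ∧
    (u = e ∨ Cfsg.quadFormMinus m (ZMod 2) 1 1 (e + u) = 1)

variable {m d r : ℕ} {aM gM : List Mv} {ys : List (Fin 16 × Fin 32)} {k : Fin 16 × Fin 32}
  {pC rC aC : List ℕ}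

/-- The section data from the checks. -/
noncomputable def mkData (hp : r.Prime) (h2 : r ≠ 2) (h : dataOK r aM gM ys k = true)
    (hk : ∃ c, kCoord k c ≠ 0) (halg : algOK m d r ys pC rC aC) : SecData m d where
  r := r
  prime := hp
  two := h2
  a := (exists_elt (ms := aM) (by simp only [dataOK, Bool.and_eq_true] at h; exact h.1.1.1.1.1)).choose
  pow_a := by
    simp only [dataOK, Bool.and_eq_true] at h
    refine Subtype.ext ?_
    rw [SubmonoidClass.coe_pow]
    exact (HasMoves.pow (exists_elt h.1.1.1.1.1).choose_spec r).eq HasMoves.one h.1.1.1.2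
  P := codeMat ixI (ixW m d) pC
  R := codeMat (ixW m d) ixI rC
  PR := halg.PR
  RP := halg.RP
  A' := codeMat Fin.val Fin.val aC
  quad := halg.quad
  hA := by
    simp only [dataOK, Bool.and_eq_true, List.all_eq_true, List.mem_range] at h
    have hc : ∀ c : I8, ixI c < 8 ∧
        kBasis (if ixI c < 4 then .inl (Fin.ofNat 4 (ixI c)) else .inr (Fin.ofNat 4 (ixI c - 4))) =
          kBasis c := by decide +kernel
    rw [show chiMat (exists_elt h.1.1.1.1.1).choose = aMat ys from Matrix.ext fun i j =>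
      chiMat_of_moves (exists_elt h.1.1.1.1.1).choose_spec j _ (by
        have := h.1.1.2 _ (hc j).1
        rwa [(hc j).2] at this) i]
    exact halg.hA
  sum_A := halg.sum_A
  ne_one := halg.ne_one
  cent := fun M hM hq => by
    obtain ⟨A', hA'⟩ : ∃ A' : Matrix (Fin d) (Fin d) (ZMod 2), A' = codeMat Fin.val Fin.val aC := ⟨_, rfl⟩
    rw [← hA'] at hM ⊢
    by_cases hd : d = 0
    · subst hd
      exact ⟨0, Matrix.ext fun i => i.elim0⟩
    · let c : Fin d → ZMod 2 := fun i => M i ⟨0, Nat.pos_of_ne_zero hd⟩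
      have hMc : M = Matrix.of fun i (j : Fin d) => ((A' ^ (j : ℕ)) *ᵥ c) i := by
        refine Matrix.ext fun i j => ?_
        have e := congrFun (congrFun ((Commute.pow_right (show Commute M A' from hM) (j : ℕ)).eq) i)
          ⟨0, Nat.pos_of_ne_zero hd⟩
        rw [Matrix.mul_apply, Matrix.mul_apply] at e
        simp only [hA', halg.cyc j, mul_ite, mul_one, mul_zero, Finset.sum_ite_eq', Finset.mem_univ,
          if_true] at e
        rw [hA']
        exact e
      subst hA'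
      obtain ⟨n, hn⟩ := halg.cent c fun v => by
        rw [← hMc]; exact hq v
      exact ⟨n, hMc.trans hn⟩
  irr := halg.irr
  two_sum := halg.two_sum
  g0 := (exists_hasMoves (ms := gM) (by
    simp only [dataOK, Bool.and_eq_true] at h; exact h.1.1.1.1.2)).choose
  g0_a := by
    simp only [dataOK, Bool.and_eq_true] at h
    exact (exists_hasMoves h.1.1.1.1.2).choose_spec.commute (exists_elt h.1.1.1.1.1).choose_spec h.1.2
  k := k
  g0_eps := by
    simp only [dataOK, Bool.and_eq_true] at h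
    exact ((exists_hasMoves h.1.1.1.1.2).choose_spec.mul hasMoves_eps).eq
      ((hasMoves_kElt k).mul (exists_hasMoves h.1.1.1.1.2).choose_spec) h.2
  k_ne := fun h0 => hk.elim fun c hc => hc (congrFun h0 c)

end CfsgLib.CoOneSection
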