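import Cfsg.Agent.CoOneSection.Moves
import Cfsg.Agent.Forms4.POmegaOrders

/-!
The action of the centralizer of the octad involution on its extraspecial subgroup modulo the centre,
in coordinates given by commutation.
-/

set_option autoImplicit false

namespace CfsgLib.CoOneSection

open Cfsg CfsgLib.Mathieu CfsgLib.Leech CfsgLib.CoOneInv CfsgLib.Spinor CfsgLib.StdForms
open scoped Matrix

/-- Lifts of a basis. -/
def kBasis : I8 → Fin 16 × Fin 32 :=
  Sum.elim ![(0, 1), (0, 2), (0, 7), (0, 11)] ![(1, 0), (3, 0), (7, 0), (11, 0)]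

/-- Coordinates by the commutation rule. -/
def kCoord (x : Fin 16 × Fin 32) (k : I8) : ZMod 2 :=
  if chi x.1 (kBasis k.swap).2 = chi (kBasis k.swap).1 x.2 then 0 else 1

theorem kCoord_basis : ∀ c k : I8, kCoord (kBasis c) k = (Pi.single c 1 : I8 → ZMod 2) k := by
  decide +kernel

theorem kCoord_kernel : ∀ x, (∀ k, kCoord x k = 0) → x = (0, 0) ∨ x = (0, 31) := by decide +kernel

theorem kCoord_sq : ∀ x, Cfsg.quadFormPlus 4 (ZMod 2) (kCoord x) = if chi x.1 x.2 = true then 1 else 0 := by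
  decide +kernel

/-- The coordinates of an element. -/
noncomputable def gc (g : Co0) : I8 → ZMod 2 :=
  open Classical in fun k => if Commute g (kElt (kBasis k.swap)) then 0 else 1

theorem gc_kElt (x : Fin 16 × Fin 32) : gc (kElt x) = kCoord x := by
  funext k
  have h := kElt_mul_cases x (kBasis k.swap)
  rw [gc, kCoord]
  by_cases h1 : chi x.1 (kBasis k.swap).2 = chi (kBasis k.swap).1 x.2
  · rw [if_pos h1] at h ⊢
    exact if_pos h
  · rw [if_neg h1] at h ⊢
    exact if_neg fun hc : Commute (kElt x) (kElt (kBasis k.swap)) =>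
      wElt_ne_one (mul_eq_left.1 (h.symm.trans hc.eq))

theorem commute_or_mul_w {g h : Co0} (hg : g ∈ fixK) (hh : h ∈ fixK) :
    Commute g h ∨ g * h = h * g * wElt := by
  obtain ⟨a, rfl⟩ := exists_kElt hg
  obtain ⟨b, rfl⟩ := exists_kElt hh
  have h := kElt_mul_cases a b
  split_ifs at h
  · exact Or.inl h
  · exact Or.inr h

theorem commute_wElt {g : Co0} (hg : g ∈ fixK) : Commute g wElt := by
  obtain ⟨a, rfl⟩ := exists_kElt hg
  exact wElt_comm a

theorem gc_mul {g h : Co0} (hg : g ∈ fixK) (hh : h ∈ fixK) : gc (g * h) = gc g + gc h := by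
  funext k
  set e := kElt (kBasis k.swap) with he
  have hem : e ∈ fixK := kElt_mem_fixK _
  have hne : ∀ x : Co0, x * e = e * x * wElt → ¬ Commute x e := fun x e1 hc =>
    wElt_ne_one (mul_eq_left.1 (e1.symm.trans hc.eq))
  rw [Pi.add_apply]
  rcases commute_or_mul_w hg hem with a | a <;> rcases commute_or_mul_w hh hem with b | b
  · simp [gc, ← he, a, b, a.mul_left b]
  · have : g * h * e = e * (g * h) * wElt := by
      rw [mul_assoc g h e, b, ← mul_assoc, ← mul_assoc g e, a.eq]; group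
    simp [gc, ← he, a, hne _ b, hne _ this]
  · have : g * h * e = e * (g * h) * wElt := by
      rw [mul_assoc g h e, b.eq, ← mul_assoc, a, mul_assoc (e * g), ← (commute_wElt hh).eq]; group
    simp [gc, ← he, b, hne _ a, hne _ this]
  · have : Commute (g * h) e := by
      show g * h * e = e * (g * h)
      rw [mul_assoc g h e, b, ← mul_assoc, ← mul_assoc g e, a, mul_assoc (e * g) wElt h,
        ← (commute_wElt hh).eq, ← mul_assoc (e * g) h, mul_assoc (e * g * h), wElt_sq, mul_one,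
        mul_assoc]
    simp only [gc, ← he, this, hne _ a, hne _ b, if_true, if_false]
    decide

theorem gc_one : gc 1 = 0 := funext fun k => by simp [gc]

theorem gc_wElt : gc wElt = 0 := funext fun k => by
  simp [gc, (commute_wElt (kElt_mem_fixK (kBasis k.swap))).symm]

theorem gc_eq_zero {g : Co0} (hg : g ∈ fixK) (h : gc g = 0) : g = 1 ∨ g = wElt := by
  obtain ⟨x, rfl⟩ := exists_kElt hg
  rw [gc_kElt] at h
  rcases kCoord_kernel x (congrFun h) with rfl | rfl
  exacts [Or.inl kElt_zero, Or.inr rfl]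

theorem gc_inv {g : Co0} (hg : g ∈ fixK) : gc g⁻¹ = gc g := by
  have h := gc_mul hg (inv_mem hg)
  rw [mul_inv_cancel, gc_one] at h
  rw [eq_comm, ← sub_eq_zero, h, sub_eq_add_neg, ZModModule.neg_eq_self (gc g⁻¹)]

theorem gc_eq_iff {g h : Co0} (hg : g ∈ fixK) (hh : h ∈ fixK) :
    gc g = gc h ↔ h = g ∨ h = g * wElt := by
  constructor
  · intro e
    have := gc_mul (inv_mem hg) hh
    rw [gc_inv hg, e, ← two_smul (ZMod 2), show (2 : ZMod 2) = 0 by decide, zero_smul] at this
    rcases gc_eq_zero (mul_mem (inv_mem hg) hh) this with r | r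
    · exact Or.inl (inv_mul_eq_one.1 r).symm
    · exact Or.inr (by rw [← r, mul_inv_cancel_left])
  · rintro (rfl | rfl)
    · rfl
    · rw [gc_mul hg wElt_mem, gc_wElt, add_zero]

theorem exists_gc (v : I8 → ZMod 2) : ∃ g ∈ fixK, gc g = v := by
  rw [← Finset.univ_sum_single v]
  refine Finset.sum_induction _ (fun u => ∃ g ∈ fixK, gc g = u) ?_ ⟨1, one_mem _, gc_one⟩ ?_
  · rintro a b ⟨g, hg, rfl⟩ ⟨h, hh, rfl⟩
    exact ⟨g * h, mul_mem hg hh, gc_mul hg hh⟩
  · intro c _
    have hb : ∀ t : ZMod 2, t = 0 ∨ t = 1 := by decide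
    rcases hb (v c) with e | e <;> rw [e]
    · exact ⟨1, one_mem _, by rw [gc_one, Pi.single_zero]⟩
    · exact ⟨_, kElt_mem_fixK (kBasis c), (gc_kElt _).trans (funext (kCoord_basis c))⟩

theorem quad_gc {g : Co0} (hg : g ∈ fixK) :
    (Q8 (gc g) = 0 ∧ g * g = 1) ∨ (Q8 (gc g) = 1 ∧ g * g = wElt) := by
  obtain ⟨x, rfl⟩ := exists_kElt hg
  have h := kCoord_sq x
  rw [q8_apply, gc_kElt, h, kElt_sq]
  split_ifs <;> simp

theorem polar_gc {g h : Co0} (hg : g ∈ fixK) (hh : h ∈ fixK) :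
    Commute g h ↔ QuadraticMap.polar (⇑Q8) (gc g) (gc h) = 0 := by
  have hw := wElt_ne_one
  have hsg : g * g ∈ fixK := mul_mem hg hg
  have key : ∀ a b : Co0, a = 1 ∨ a = wElt → b = 1 ∨ b = wElt → Commute a b := by
    rintro a b (rfl | rfl) (rfl | rfl) <;> first | exact Commute.one_left _ | exact Commute.one_right _ | exact Commute.refl _
  rw [QuadraticMap.polar, ← gc_mul hg hh]
  rcases commute_or_mul_w hg hh with c | c
  · have e : g * h * (g * h) = g * g * (h * h) := by
      rw [mul_assoc g h, ← mul_assoc h g h, ← c.eq]; group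
    refine iff_of_true c ?_
    rcases quad_gc hg with ⟨q1, s1⟩ | ⟨q1, s1⟩ <;> rcases quad_gc hh with ⟨q2, s2⟩ | ⟨q2, s2⟩ <;>
      rcases quad_gc (mul_mem hg hh) with ⟨q3, s3⟩ | ⟨q3, s3⟩ <;>
      rw [e, s1, s2] at s3 <;> rw [q1, q2, q3] <;>
      simp only [one_mul, mul_one, wElt_sq] at s3 <;>
      first | decide | exact absurd s3 hw | exact absurd s3.symm hw
  · have e : g * h * (g * h) = g * g * (h * h) * wElt := by
      have c' : h * g = g * h * wElt := by rw [c, mul_assoc, wElt_sq, mul_one]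
      rw [mul_assoc g h, ← mul_assoc h g h, c', mul_assoc (g * h) wElt h, ← (commute_wElt hh).eq]
      group
    refine iff_of_false (fun hc => hw (mul_eq_left.1 (c.symm.trans hc.eq))) ?_
    rcases quad_gc hg with ⟨q1, s1⟩ | ⟨q1, s1⟩ <;> rcases quad_gc hh with ⟨q2, s2⟩ | ⟨q2, s2⟩ <;>
      rcases quad_gc (mul_mem hg hh) with ⟨q3, s3⟩ | ⟨q3, s3⟩ <;>
      rw [e, s1, s2] at s3 <;> rw [q1, q2, q3] <;>
      simp only [one_mul, mul_one, wElt_sq] at s3 <;>
      first | decide | exact absurd s3 hw | exact absurd s3.symm hw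

/-! ### Conjugation -/

theorem wElt_central (g : C0) : Commute (g : Co0) wElt := by
  rw [wElt_eq_neg_mul]
  exact Commute.mul_right (Subgroup.mem_center_iff.1 negCo0_mem_center _)
    (Subgroup.mem_centralizer_singleton_iff.1 g.2)

theorem conj_fixK (g : C0) {x : Co0} (hx : x ∈ fixK) : (g : Co0) * x * (g : Co0)⁻¹ ∈ fixK :=
  fixKC_normal.conj_mem ⟨x, fixK_le_C0 hx⟩ hx g

theorem gc_conj_eq (g : C0) {x y : Co0} (hx : x ∈ fixK) (hy : y ∈ fixK) (h : gc x = gc y) :
    gc ((g : Co0) * x * (g : Co0)⁻¹) = gc ((g : Co0) * y * (g : Co0)⁻¹) := by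
  refine (gc_eq_iff (conj_fixK g hx) (conj_fixK g hy)).2 ?_
  rcases (gc_eq_iff hx hy).1 h with e | e <;> rw [e]
  · exact Or.inl rfl
  · exact Or.inr (by rw [mul_assoc _ ((g : Co0)⁻¹) wElt, ((wElt_central g).inv_left).eq]; group)

/-- Conjugation on the coordinates. -/
noncomputable def conjAdd (g : C0) : (I8 → ZMod 2) →+ (I8 → ZMod 2) :=
  AddMonoidHom.mk' (fun v => gc ((g : Co0) * (exists_gc v).choose * (g : Co0)⁻¹)) fun u v => by
    obtain ⟨hu, eu⟩ := (exists_gc u).choose_spec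
    obtain ⟨hv, ev⟩ := (exists_gc v).choose_spec
    obtain ⟨hw, ew⟩ := (exists_gc (u + v)).choose_spec
    rw [← gc_mul (conj_fixK g hu) (conj_fixK g hv), conj_mul]
    exact gc_conj_eq g hw (mul_mem hu hv) (by rw [ew, gc_mul hu hv, eu, ev])

theorem conjAdd_gc (g : C0) {x : Co0} (hx : x ∈ fixK) :
    conjAdd g (gc x) = gc ((g : Co0) * x * (g : Co0)⁻¹) := by
  obtain ⟨hc, ec⟩ := (exists_gc (gc x)).choose_spec
  exact gc_conj_eq g hc hx ec

/-- The matrix of conjugation. -/
noncomputable def chiMat (g : C0) : Matrix I8 I8 (ZMod 2) :=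
  LinearMap.toMatrix' ((conjAdd g).toZModLinearMap 2)

theorem chiMat_gc (g : C0) {x : Co0} (hx : x ∈ fixK) :
    chiMat g *ᵥ gc x = gc ((g : Co0) * x * (g : Co0)⁻¹) := by
  rw [chiMat, LinearMap.toMatrix'_mulVec]
  exact conjAdd_gc g hx

theorem mat_ext_gc {A B : Matrix I8 I8 (ZMod 2)} (h : ∀ x ∈ fixK, A *ᵥ gc x = B *ᵥ gc x) : A = B :=
  Matrix.ext_iff_mulVec.2 fun v => by
    obtain ⟨x, hx, rfl⟩ := exists_gc v
    exact h x hx

theorem chiMat_one : chiMat 1 = 1 := mat_ext_gc fun x hx => by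
  rw [chiMat_gc _ hx, Matrix.one_mulVec]; simp

theorem chiMat_mul (g h : C0) : chiMat (g * h) = chiMat g * chiMat h := mat_ext_gc fun x hx => by
  rw [← Matrix.mulVec_mulVec, chiMat_gc _ hx, chiMat_gc _ hx, chiMat_gc _ (conj_fixK h hx)]
  rw [Subgroup.coe_mul, mul_inv_rev]
  simp only [mul_assoc]

theorem quad_chiMat (g : C0) (v : I8 → ZMod 2) : Q8 (chiMat g *ᵥ v) = Q8 v := by
  obtain ⟨x, hx, rfl⟩ := exists_gc v
  rw [chiMat_gc g hx]
  have e : (g : Co0) * x * (g : Co0)⁻¹ * ((g : Co0) * x * (g : Co0)⁻¹) =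
      (g : Co0) * (x * x) * (g : Co0)⁻¹ := by group
  have hw := wElt_ne_one
  rcases quad_gc hx with ⟨q, s⟩ | ⟨q, s⟩ <;>
    rcases quad_gc (conj_fixK g hx) with ⟨q', s'⟩ | ⟨q', s'⟩ <;> rw [q, q']
  all_goals
    exfalso
    rw [e, s] at s'
    simp only [mul_one, mul_inv_cancel, (wElt_central g).eq, mul_inv_cancel_right] at s'
    first | exact hw s'.symm | exact hw s'

/-- Conjugation as a homomorphism into the isometry group. -/
noncomputable def chiQ : C0 →* ↥(Cfsg.isometryGroup (ZMod 2) ⇑Q8) :=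
  (MonoidHom.toHomUnits
    { toFun := chiMat, map_one' := chiMat_one, map_mul' := chiMat_mul }).codRestrict _ fun g u _ =>
    quad_chiMat g u

theorem chiQ_mat (g : C0) : mat Q8 (chiQ g) = chiMat g := rfl

theorem chiQ_eq_one {g : C0} : chiQ g = 1 ↔ ∀ x ∈ fixK, gc ((g : Co0) * x * (g : Co0)⁻¹) = gc x := by
  constructor
  · intro h x hx
    rw [← chiMat_gc g hx, ← chiQ_mat, h, mat_one, Matrix.one_mulVec]
  · intro h
    refine mat_ext Q8 ?_
    rw [chiQ_mat, mat_one]
    exact mat_ext_gc fun x hx => by rw [chiMat_gc g hx, h x hx, Matrix.one_mulVec]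

theorem chiQ_fixK {g : C0} (hg : (g : Co0) ∈ fixK) : chiQ g = 1 :=
  chiQ_eq_one.2 fun x hx => by
    rw [gc_mul (mul_mem hg hx) (inv_mem hg), gc_mul hg hx, gc_inv hg, add_comm (gc (g : Co0)),
      add_assoc, ← two_smul (ZMod 2) (gc (g : Co0)), show (2 : ZMod 2) = 0 by decide, zero_smul, add_zero]

theorem chiQ_negC : chiQ negC = 1 :=
  chiQ_eq_one.2 fun x _ => by
    show gc (negCo0 * x * negCo0⁻¹) = _
    rw [← Subgroup.mem_center_iff.1 negCo0_mem_center x, mul_inv_cancel_right]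

theorem chiQ_of_fixK_or {g : C0} (hg : (g : Co0) ∈ fixK ∨ negCo0 * (g : Co0) ∈ fixK) : chiQ g = 1 := by
  rcases hg with h | h
  · exact chiQ_fixK h
  · have := chiQ_fixK (g := negC * g) h
    rwa [map_mul, chiQ_negC, one_mul] at this

/-- The columns of the action from move lists. -/
theorem chiMat_of_moves {g : C0} {ms : List Mv} (hg : HasMoves (g : Co0) ms) (c : I8)
    (y : Fin 16 × Fin 32) (h : sameMoves ([kMv (kBasis c)] ++ ms) (ms ++ [kMv y]) = true) (r : I8) :
    chiMat g r c = kCoord y r := by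
  have e : (g : Co0) * kElt (kBasis c) = kElt y * (g : Co0) :=
    (hg.mul (hasMoves_kElt _)).eq ((hasMoves_kElt y).mul hg) h
  have e2 := congrFun (chiMat_gc g (kElt_mem_fixK (kBasis c))) r
  rw [e, mul_inv_cancel_right, gc_kElt, gc_kElt, show kCoord (kBasis c) = Pi.single c 1 from
    funext (kCoord_basis c), Matrix.mulVec_single_one] at e2
  exact e2

theorem ker_chiQ {g : C0} : chiQ g = 1 ↔ (g : Co0) ∈ fixK ∨ negCo0 * (g : Co0) ∈ fixK := by
  refine ⟨fun h => ?_, chiQ_of_fixK_or⟩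
  by_contra hg
  -- the image of the kernel in the simple group would be everything
  have := omega_simple.1
  let f : C0 →* Cfsg.Omega (ZMod 2) ⇑Q8 :=
    (MulEquiv.subgroupCongr range_phiQ).toMonoidHom.comp phiQ.rangeRestrict
  have hf : Function.Surjective f :=
    (MulEquiv.subgroupCongr range_phiQ).surjective.comp phiQ.rangeRestrict_surjective
  have hfc : ∀ x : C0, f x = 1 → chiQ x = 1 := fun x hx => by
    refine chiQ_of_fixK_or (ker_phiQ x ?_)
    have := congrArg Subtype.val hx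
    exact this
  rcases (Subgroup.Normal.map (H := chiQ.ker) inferInstance f hf).eq_bot_or_eq_top with e | e
  · refine hg (ker_phiQ g ?_)
    have h1 : f g = 1 := Subgroup.mem_bot.1 (e ▸ Subgroup.mem_map_of_mem f (MonoidHom.mem_ker.2 h))
    exact congrArg Subtype.val h1
  · have hall : ∀ x : C0, chiQ x = 1 := fun x => by
      obtain ⟨y, hy, hyx⟩ : f x ∈ chiQ.ker.map f := e ▸ Subgroup.mem_top _
      have := hfc (y⁻¹ * x) (by rw [map_mul, map_inv, hyx, inv_mul_cancel])
      rwa [map_mul, map_inv, MonoidHom.mem_ker.1 hy, inv_one, one_mul] at this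
    obtain ⟨ms, hms, c, y, hy, hne⟩ : ∃ ms, movesOK ms = true ∧ ∃ c, ∃ y,
        sameMoves ([kMv (kBasis c)] ++ ms) (ms ++ [kMv y]) = true ∧ kCoord y ≠ kCoord (kBasis c) :=
      ⟨[.xi], by decide +kernel, .inl 0, (13, 30), by decide +kernel⟩
    obtain ⟨x, hx⟩ := exists_elt hms
    refine hne (funext fun r => ?_)
    rw [← chiMat_of_moves hx c y hy r, ← chiQ_mat, hall x, mat_one, Matrix.one_apply, kCoord_basis,
      Pi.single_apply]

theorem omega_perfect : commutator (Cfsg.Omega (ZMod 2) ⇑Q8) = ⊤ :=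
  CfsgLib.Forms4.TwoPairs.commutator_omega (plusQ_nondegenerate 4) (by simp)
    (CfsgLib.Forms4.plusPairs 4 (by norm_num))

theorem range_chiQ : chiQ.range = Cfsg.Omega (ZMod 2) ⇑Q8 := by
  have hker : chiQ.ker = phiQ.ker := by
    ext g
    rw [MonoidHom.mem_ker, MonoidHom.mem_ker, ker_chiQ]
    exact ⟨fun h => h.elim phiQ_fixK fun h => by
      have := phiQ_fixK (g := negC * g) h
      rwa [map_mul, phiQ_negC, one_mul] at this, ker_phiQ g⟩
  let e : chiQ.range ≃* Cfsg.Omega (ZMod 2) ⇑Q8 :=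
    ((QuotientGroup.quotientKerEquivRange chiQ).symm.trans
      (QuotientGroup.quotientMulEquivOfEq hker)).trans
      ((QuotientGroup.quotientKerEquivRange phiQ).trans (MulEquiv.subgroupCongr range_phiQ))
  have hperf : commutator chiQ.range = ⊤ := by
    rw [commutator_def, ← Subgroup.map_top_of_surjective e.symm.toMonoidHom e.symm.surjective,
      ← Subgroup.map_commutator, ← commutator_def, omega_perfect]
  have hle : chiQ.range ≤ Cfsg.Omega (ZMod 2) ⇑Q8 := by
    intro x hx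
    have h1 : x ∈ (commutator chiQ.range).map chiQ.range.subtype :=
      ⟨⟨x, hx⟩, hperf ▸ Subgroup.mem_top _, rfl⟩
    rw [commutator_def, Subgroup.map_commutator] at h1
    exact Subgroup.commutator_mono le_top le_top h1
  exact Subgroup.eq_of_le_of_card_ge hle (Nat.card_congr e.toEquiv).ge

end CfsgLib.CoOneSection
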