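import Cfsg.Agent.CoOneSection.Coords
import Cfsg.Agent.LargeExtraspecial.Simplicity

/-!
The centralizer of an element of odd prime order commuting with the octad involution, modulo that element
and the sign: the involution centralizer and its extraspecial subgroup.
-/

set_option autoImplicit false

namespace CfsgLib.CoOneSection

open Cfsg CfsgLib.Mathieu CfsgLib.Leech CfsgLib.CoOneInv CfsgLib.Spinor CfsgLib.StdForms
open scoped Matrix

/-- The index type of the minus space. -/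
abbrev IW (m : ℕ) := (Fin m ⊕ Fin m) ⊕ Fin 2

/-- The minus form. -/
noncomputable abbrev QW (m : ℕ) : QuadraticForm (ZMod 2) (IW m → ZMod 2) := minusQ m (ZMod 2) 1 1

/-- The polar of the minus form, computably. -/
def polW (m : ℕ) (u v : IW m → ZMod 2) : ZMod 2 :=
  Cfsg.quadFormMinus m (ZMod 2) 1 1 (u + v) - Cfsg.quadFormMinus m (ZMod 2) 1 1 u -
    Cfsg.quadFormMinus m (ZMod 2) 1 1 v

theorem polar_QW (m : ℕ) (u v : IW m → ZMod 2) : QuadraticMap.polar (⇑(QW m)) u v = polW m u v := by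
  rw [QuadraticMap.polar, polW, coe_minusQ]

/-- A block diagonal matrix. -/
def blk {ι κ : Type} [Fintype ι] [DecidableEq ι] [Fintype κ] [DecidableEq κ]
    (X : Matrix ι ι (ZMod 2)) (Y : Matrix κ κ (ZMod 2)) : Matrix (ι ⊕ κ) (ι ⊕ κ) (ZMod 2) :=
  Matrix.fromBlocks X 0 0 Y

theorem blk_one {ι κ : Type} [Fintype ι] [DecidableEq ι] [Fintype κ] [DecidableEq κ] :
    blk (1 : Matrix ι ι (ZMod 2)) (1 : Matrix κ κ (ZMod 2)) = 1 := Matrix.fromBlocks_one

theorem blk_mul {ι κ : Type} [Fintype ι] [DecidableEq ι] [Fintype κ] [DecidableEq κ]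
    (X X' : Matrix ι ι (ZMod 2)) (Y Y' : Matrix κ κ (ZMod 2)) :
    blk X Y * blk X' Y' = blk (X * X') (Y * Y') := by
  simp [blk, Matrix.fromBlocks_multiply]

/-- An element of prime order with the splitting of the coordinates it induces. -/
structure SecData (m d : ℕ) where
  /-- the prime -/
  r : ℕ
  prime : r.Prime
  two : r ≠ 2
  /-- the element -/
  a : C0
  pow_a : a ^ r = 1
  /-- the basis adapted to it -/
  P : Matrix I8 (IW m ⊕ Fin d) (ZMod 2)
  /-- its inverse -/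
  R : Matrix (IW m ⊕ Fin d) I8 (ZMod 2)
  PR : P * R = 1
  RP : R * P = 1
  /-- the action on the moved part -/
  A' : Matrix (Fin d) (Fin d) (ZMod 2)
  quad : ∀ u v, Cfsg.quadFormPlus 4 (ZMod 2) (P *ᵥ Sum.elim u v) =
    Cfsg.quadFormMinus m (ZMod 2) 1 1 u + Cfsg.quadFormPlus 4 (ZMod 2) (P *ᵥ Sum.elim 0 v)
  hA : R * chiMat a * P = blk 1 A'
  sum_A : ∑ i : Fin r, A' ^ (i : ℕ) = 0
  ne_one : A' ≠ 1
  cent : ∀ M : Matrix (Fin d) (Fin d) (ZMod 2), M * A' = A' * M →
    (∀ v, Cfsg.quadFormPlus 4 (ZMod 2) (P *ᵥ Sum.elim 0 (M *ᵥ v)) =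
      Cfsg.quadFormPlus 4 (ZMod 2) (P *ᵥ Sum.elim 0 v)) → ∃ k : ℕ, M = A' ^ k
  irr : ∀ x : IW m → ZMod 2, x ≠ 0 →
    (∃ v, Cfsg.quadFormMinus m (ZMod 2) 1 1 v = 1 ∧ polW m x v = 0) ∧
      ∀ e, Cfsg.quadFormMinus m (ZMod 2) 1 1 e = 1 → polW m x e = 1 ∨
        ∃ u, Cfsg.quadFormMinus m (ZMod 2) 1 1 u = 1 ∧ polW m x u = 1 ∧ polW m u e = 1
  two_sum : ∀ e : IW m → ZMod 2, ∃ u, Cfsg.quadFormMinus m (ZMod 2) 1 1 u = 1 ∧
    (u = e ∨ Cfsg.quadFormMinus m (ZMod 2) 1 1 (e + u) = 1)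
  /-- an element commuting with it which moves the involution -/
  g0 : Co0
  g0_a : g0 * (a : Co0) = (a : Co0) * g0
  /-- the image of the involution under it -/
  k : Fin 16 × Fin 32
  g0_eps : g0 * epsCo0 = kElt k * g0
  k_ne : kCoord k ≠ 0

variable {m d : ℕ} (D : SecData m d)

namespace SecData

/-- The subgroup of prime order. -/
abbrev A : Subgroup Co0 := Subgroup.zpowers (D.a : Co0)

/-- Its centralizer. -/
abbrev T : Subgroup Co0 := Subgroup.centralizer (D.A : Set Co0)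

theorem mem_T {g : Co0} : g ∈ D.T ↔ Commute g (D.a : Co0) := by
  constructor
  · intro h
    exact (Subgroup.mem_centralizer_iff.1 h _ (Subgroup.mem_zpowers _)).symm
  · intro h
    refine Subgroup.mem_centralizer_iff.2 ?_
    rintro _ ⟨n, rfl⟩
    exact (h.zpow_right n).eq.symm

theorem a_pow : (D.a : Co0) ^ D.r = 1 := by rw [← SubmonoidClass.coe_pow, D.pow_a]; rfl

theorem chi_a_ne : chiQ D.a ≠ 1 := fun h => D.ne_one (by
  have e := D.hA
  rw [show chiMat D.a = 1 by rw [← chiQ_mat, h, mat_one], Matrix.mul_one, D.RP,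
    ← blk_one] at e
  exact (congrArg Matrix.toBlocks₂₂ e).symm)

theorem orderOf_a : orderOf (D.a : Co0) = D.r :=
  haveI := Fact.mk D.prime
  orderOf_eq_prime D.a_pow fun h => D.chi_a_ne (by rw [show D.a = 1 from Subtype.ext h, map_one])

theorem card_A : Nat.card D.A = D.r := by rw [Nat.card_zpowers, D.orderOf_a]

theorem odd_r : Odd D.r := D.prime.odd_of_ne_two D.two

theorem r_smul {V : Type*} [AddCommGroup V] [Module (ZMod 2) V] (v : V) : D.r • v = v := by
  obtain ⟨n, hn⟩ := D.odd_r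
  rw [hn, add_smul, one_smul, mul_comm, mul_smul, two_nsmul, ZModModule.add_self, smul_zero, zero_add]

/-! ### The elements to divide by -/

theorem mem_sup {x : Co0} : x ∈ D.A ⊔ Subgroup.center Co0 ↔
    ∃ y ∈ D.A, ∃ c ∈ Subgroup.center Co0, y * c = x :=
  Subgroup.mem_sup_of_normal_right

theorem sup_le_T : D.A ⊔ Subgroup.center Co0 ≤ D.T :=
  sup_le (fun _ hx => Subgroup.mem_centralizer_iff.2 fun _ hy => by
    obtain ⟨i, rfl⟩ := hx; obtain ⟨j, rfl⟩ := hy
    exact ((Commute.refl (D.a : Co0)).zpow_zpow j i).eq)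
    (fun _ hx => Subgroup.mem_centralizer_iff.2 fun y _ => Subgroup.mem_center_iff.1 hx y)

theorem sup_le_C0 : D.A ⊔ Subgroup.center Co0 ≤ C0 :=
  sup_le ((Subgroup.zpowers_le).2 D.a.2)
    (fun _ hx => Subgroup.mem_centralizer_singleton_iff.2 (Subgroup.mem_center_iff.1 hx epsCo0).symm)

theorem sup_central {x : Co0} (hx : x ∈ D.A ⊔ Subgroup.center Co0) {t : Co0} (ht : t ∈ D.T) :
    Commute x t := by
  obtain ⟨y, hy, c, hc, rfl⟩ := D.mem_sup.1 hx
  exact Commute.mul_left (Subgroup.mem_centralizer_iff.1 ht y hy)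
    (Subgroup.mem_center_iff.1 hc t).symm

/-- The subgroup to divide by. -/
abbrev M : Subgroup D.T := (D.A ⊔ Subgroup.center Co0).subgroupOf D.T

instance M_normal : D.M.Normal := ⟨fun x hx t => by
  have hx' := Subgroup.mem_subgroupOf.1 hx
  rw [Subgroup.mem_subgroupOf, Subgroup.coe_mul, Subgroup.coe_mul, Subgroup.coe_inv,
    ← (D.sup_central hx' t.2).eq, mul_inv_cancel_right]
  exact hx'⟩

theorem four_of_mem_fixK {x : Co0} (hx : x ∈ fixK) : x ^ 4 = 1 := by
  rw [show (4 : ℕ) = 2 + 2 from rfl, pow_add, pow_two]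
  rcases quad_gc hx with ⟨-, s⟩ | ⟨-, s⟩ <;> simp [s, wElt_sq]

theorem center_sq {c : Co0} (hc : c ∈ Subgroup.center Co0) : c ^ 2 = 1 := by
  rcases center_cases hc with e | e <;> rw [e]
  · simp
  · refine co0_ext fun v => Subtype.ext ?_
    rw [sq, mul_smul, negCo0_smul, negCo0_smul, neg_neg, one_smul]

theorem sup_four {x : Co0} (hx : x ∈ D.A ⊔ Subgroup.center Co0) (h : x ^ 4 = 1) :
    x ∈ Subgroup.center Co0 := by
  obtain ⟨y, hy, c, hc, rfl⟩ := D.mem_sup.1 hx
  have hy' : y ^ 4 = 1 := by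
    rw [Commute.mul_pow (Subgroup.mem_center_iff.1 hc y), show c ^ 4 = (c ^ 2) ^ 2 by rw [← pow_mul],
      center_sq hc, one_pow, mul_one] at h
    exact h
  have hy1 : y = 1 := by
    rw [← orderOf_eq_one_iff]
    have h1 : orderOf y ∣ 4 := orderOf_dvd_of_pow_eq_one hy'
    have h2 : orderOf y ∣ D.r := by
      rw [← D.orderOf_a]
      obtain ⟨n, rfl⟩ := hy
      exact orderOf_dvd_of_pow_eq_one (by
        rw [← zpow_natCast, ← zpow_mul, mul_comm, zpow_mul, zpow_natCast, pow_orderOf_eq_one, one_zpow])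
    have hco : Nat.Coprime 4 D.r :=
      (Nat.coprime_primes Nat.prime_two D.prime).2 (Ne.symm D.two) |>.pow_left 2
    exact Nat.eq_one_of_dvd_coprimes hco h1 h2
  rwa [hy1, one_mul]

theorem sup_inter_fixK {x : Co0} (hx : x ∈ D.A ⊔ Subgroup.center Co0) (hk : x ∈ fixK) : x = 1 := by
  rcases center_cases (D.sup_four hx (four_of_mem_fixK hk)) with e | e
  · exact e
  · exact (negCo0_not_mem (e ▸ hk)).elim

/-! ### The quotient and its involution -/

/-- The quotient. -/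
abbrev S : Type := D.T ⧸ D.M

/-- The projection. -/
noncomputable def proj : D.T →* D.S := QuotientGroup.mk' D.M

theorem proj_eq_one {x : D.T} : D.proj x = 1 ↔ (x : Co0) ∈ D.A ⊔ Subgroup.center Co0 :=
  (QuotientGroup.eq_one_iff x).trans Subgroup.mem_subgroupOf

theorem eps_mem_T : epsCo0 ∈ D.T :=
  D.mem_T.2 (Subgroup.mem_centralizer_singleton_iff.1 D.a.2).symm

theorem wElt_mem_T : wElt ∈ D.T := D.mem_T.2 (wElt_central D.a).symm

/-- The involution. -/
noncomputable def zS : D.S := D.proj ⟨epsCo0, D.eps_mem_T⟩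

theorem proj_wElt : D.proj ⟨wElt, D.wElt_mem_T⟩ = D.zS := by
  refine (QuotientGroup.eq.2 ?_)
  rw [Subgroup.mem_subgroupOf]
  refine Subgroup.mem_sup_right ?_
  show wElt⁻¹ * epsCo0 ∈ _
  rw [wElt_eq_neg_mul, mul_inv_rev, mul_assoc, ← Subgroup.mem_center_iff.1 (inv_mem negCo0_mem_center),
    ← mul_assoc, inv_mul_cancel, one_mul]
  exact inv_mem negCo0_mem_center

theorem orderOf_zS : orderOf D.zS = 2 := by
  refine orderOf_eq_prime ?_ fun h => ?_
  · rw [← proj_wElt, sq, ← map_mul,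
      show (⟨wElt, D.wElt_mem_T⟩ : D.T) * ⟨wElt, D.wElt_mem_T⟩ = 1 from Subtype.ext wElt_sq, map_one]
  · rw [← proj_wElt] at h
    exact wElt_ne_one (D.sup_inter_fixK (D.proj_eq_one.1 h) wElt_mem)

/-- The part of the involution centralizer. -/
abbrev Dc : Subgroup Co0 := C0 ⊓ D.T

/-- The centralizer of the involution. -/
abbrev CS : Subgroup D.S := Subgroup.centralizer ({D.zS} : Set D.S)

theorem eps_cases {t : Co0} (ht : t ∈ D.T)
    (h : D.proj ⟨t, ht⟩ * D.zS = D.zS * D.proj ⟨t, ht⟩) : t ∈ C0 := by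
  rw [zS, ← map_mul, ← map_mul] at h
  have hm : (epsCo0 * t)⁻¹ * (t * epsCo0) ∈ D.A ⊔ Subgroup.center Co0 :=
    Subgroup.mem_subgroupOf.1 (QuotientGroup.eq.1 h.symm)
  set x := (epsCo0 * t)⁻¹ * (t * epsCo0) with hx
  have hee : epsCo0 * epsCo0 = 1 := co0_ext fun v => Subtype.ext (funext fun p => by
    simp only [mul_smul, epsCo0_smul, one_smul]; split_ifs <;> simp)
  have hte : t⁻¹ * epsCo0 * t = x * epsCo0 := by
    have hi : epsCo0⁻¹ = epsCo0 := inv_eq_of_mul_eq_one_right hee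
    rw [hx, mul_inv_rev, hi, mul_assoc (t⁻¹ * epsCo0) (t * epsCo0) epsCo0, mul_assoc t epsCo0 epsCo0,
      hee, mul_one]
  have h2 : (x * epsCo0) * (x * epsCo0) = 1 := by
    rw [← hte, mul_assoc, ← mul_assoc t, ← mul_assoc t, mul_inv_cancel, one_mul, ← mul_assoc,
      mul_assoc t⁻¹ epsCo0, hee, mul_one, inv_mul_cancel]
  rw [mul_assoc, ← mul_assoc epsCo0, ← (D.sup_central hm D.eps_mem_T).eq, mul_assoc x, hee, mul_one] at h2
  have hc := D.sup_four hm (by rw [show (4 : ℕ) = 2 + 2 from rfl, pow_add, pow_two, h2, mul_one])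
  rcases center_cases hc with e | e
  · rw [Subgroup.mem_centralizer_singleton_iff]
    exact (inv_mul_eq_one.1 e).symm
  · refine (not_eps_mul (g := t) ?_).elim
    rw [← mul_inv_cancel_left (epsCo0 * t) (t * epsCo0), ← hx, e, wElt_eq_neg_mul,
      Subgroup.mem_center_iff.1 negCo0_mem_center (epsCo0 * t), mul_assoc]

/-- The projection onto the centralizer of the involution. -/
noncomputable def projC : D.Dc →* D.CS :=
  (D.proj.comp (Subgroup.inclusion inf_le_right)).codRestrict _ fun t => by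
    rw [Subgroup.mem_centralizer_singleton_iff, MonoidHom.comp_apply, zS, ← map_mul, ← map_mul]
    exact congrArg D.proj (Subtype.ext (Subgroup.mem_centralizer_singleton_iff.1 t.2.1))

theorem projC_coe (t : D.Dc) : (D.projC t : D.S) = D.proj ⟨t, t.2.2⟩ := rfl

theorem projC_surjective : Function.Surjective D.projC := by
  rintro ⟨s, hs⟩
  obtain ⟨⟨t, ht⟩, rfl⟩ := QuotientGroup.mk'_surjective D.M s
  exact ⟨⟨t, D.eps_cases ht (Subgroup.mem_centralizer_singleton_iff.1 hs), ht⟩, rfl⟩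

theorem projC_eq_one {t : D.Dc} : D.projC t = 1 ↔ (t : Co0) ∈ D.A ⊔ Subgroup.center Co0 := by
  rw [Subtype.ext_iff, projC_coe]
  exact D.proj_eq_one

theorem fixK_eq_of_proj {x y : D.Dc} (hx : (x : Co0) ∈ fixK) (hy : (y : Co0) ∈ fixK)
    (h : D.projC x = D.projC y) : x = y := by
  have h1 : D.projC (x⁻¹ * y) = 1 := by rw [map_mul, map_inv, h, inv_mul_cancel]
  exact Subtype.ext (inv_mul_eq_one.1
    (D.sup_inter_fixK (D.projC_eq_one.1 h1) (mul_mem (inv_mem hx) hy)))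

/-! ### The extraspecial subgroup -/

/-- The first coordinates. -/
def prW (v : I8 → ZMod 2) : IW m → ZMod 2 := fun i => (D.R *ᵥ v) (.inl i)

/-- The second coordinates. -/
def prK (v : I8 → ZMod 2) : Fin d → ZMod 2 := fun i => (D.R *ᵥ v) (.inr i)

/-- The embedding of the first coordinates. -/
def elW (u : IW m → ZMod 2) : I8 → ZMod 2 := D.P *ᵥ Sum.elim u 0

theorem P_pr (v : I8 → ZMod 2) : D.P *ᵥ Sum.elim (D.prW v) (D.prK v) = v := by
  have : Sum.elim (D.prW v) (D.prK v) = D.R *ᵥ v := funext fun i => by cases i <;> rfl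
  rw [this, Matrix.mulVec_mulVec, D.PR, Matrix.one_mulVec]

theorem R_P (w : IW m ⊕ Fin d → ZMod 2) : D.R *ᵥ (D.P *ᵥ w) = w := by
  rw [Matrix.mulVec_mulVec, D.RP, Matrix.one_mulVec]

theorem prW_elW (u : IW m → ZMod 2) : D.prW (D.elW u) = u := by
  funext i; rw [prW, elW, R_P]; rfl

theorem prK_elW (u : IW m → ZMod 2) : D.prK (D.elW u) = 0 := by
  funext i; rw [prK, elW, R_P]; rfl

theorem elW_add (u v : IW m → ZMod 2) : D.elW (u + v) = D.elW u + D.elW v := by
  rw [elW, elW, elW, ← Matrix.mulVec_add]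
  congr 1
  funext i; cases i <;> simp

theorem elW_zero : D.elW 0 = 0 := by rw [elW, Sum.elim_zero_zero, Matrix.mulVec_zero]

theorem prW_add (u v : I8 → ZMod 2) : D.prW (u + v) = D.prW u + D.prW v := by
  funext i; simp [prW, Matrix.mulVec_add]

theorem blocks_mulVec (X : Matrix (IW m) (IW m) (ZMod 2)) (Y : Matrix (Fin d) (Fin d) (ZMod 2))
    (u : IW m → ZMod 2) (v : Fin d → ZMod 2) :
    blk X Y *ᵥ Sum.elim u v = Sum.elim (X *ᵥ u) (Y *ᵥ v) := by
  rw [blk, Matrix.fromBlocks_mulVec]; simp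

theorem chi_a_P (u : IW m → ZMod 2) (v : Fin d → ZMod 2) :
    chiMat D.a *ᵥ (D.P *ᵥ Sum.elim u v) = D.P *ᵥ Sum.elim u (D.A' *ᵥ v) := by
  have : chiMat D.a * D.P = D.P * blk (1 : Matrix (IW m) (IW m) (ZMod 2)) D.A' := by
    rw [← D.hA, ← Matrix.mul_assoc, ← Matrix.mul_assoc, D.PR, Matrix.one_mul]
  rw [Matrix.mulVec_mulVec, this, ← Matrix.mulVec_mulVec, blocks_mulVec, Matrix.one_mulVec]

theorem eq_zero_of_fixed {v : Fin d → ZMod 2} (h : D.A' *ᵥ v = v) : v = 0 := by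
  have hp : ∀ i : ℕ, (D.A' ^ i) *ᵥ v = v := fun i => by
    induction i with
    | zero => rw [pow_zero, Matrix.one_mulVec]
    | succ i ih => rw [pow_succ', ← Matrix.mulVec_mulVec, ih, h]
  have := congrArg (· *ᵥ v) D.sum_A
  simp only [Matrix.sum_mulVec, hp, Matrix.zero_mulVec, Finset.sum_const, Finset.card_univ,
    Fintype.card_fin, D.r_smul] at this
  exact this

/-- The elements centralized. -/
abbrev Qa : Subgroup Co0 := fixK ⊓ D.T

theorem commute_a_iff {x : Co0} (hx : x ∈ fixK) : x ∈ D.T ↔ gc x = D.elW (D.prW (gc x)) := by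
  rw [D.mem_T]
  constructor
  · intro h
    have e := chiMat_gc D.a hx
    rw [← h.eq, mul_inv_cancel_right] at e
    conv_lhs at e => rw [← D.P_pr (gc x), D.chi_a_P]
    conv_rhs at e => rw [← D.P_pr (gc x)]
    have e2 := congrArg (fun v => fun i => (D.R *ᵥ v) (Sum.inr i)) e
    simp only [D.R_P, Sum.elim_inr] at e2
    conv_lhs => rw [← D.P_pr (gc x), D.eq_zero_of_fixed e2]
    rfl
  · intro h
    have e := chiMat_gc D.a hx
    rw [h, elW, D.chi_a_P, Matrix.mulVec_zero] at e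
    change D.elW (D.prW (gc x)) = _ at e
    rw [← h] at e
    rcases (gc_eq_iff hx (conj_fixK D.a hx)).1 e with r | r
    · exact (mul_inv_eq_iff_eq_mul.1 r).symm
    · exfalso
      have hw : Commute (D.a : Co0) wElt := wElt_central D.a
      have key : ∀ n : ℕ, (D.a : Co0) ^ n * x = x * wElt ^ n * (D.a : Co0) ^ n := by
        intro n
        induction n with
        | zero => simp
        | succ n ih =>
          rw [pow_succ', mul_assoc, ih, ← mul_assoc, ← mul_assoc, mul_inv_eq_iff_eq_mul.1 r,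
            mul_assoc x wElt, mul_assoc x, mul_assoc wElt, (hw.pow_right n).eq, pow_succ']
          simp only [mul_assoc]
      have := key D.r
      obtain ⟨n, hn⟩ := D.odd_r
      rw [D.a_pow, one_mul, mul_one] at this
      rw [hn, pow_succ, pow_mul, sq, wElt_sq, one_pow, one_mul] at this
      exact wElt_ne_one (mul_eq_left.1 this.symm)

theorem exists_Qa (u : IW m → ZMod 2) : ∃ x ∈ D.Qa, gc x = D.elW u := by
  obtain ⟨x, hx, e⟩ := exists_gc (D.elW u)
  exact ⟨x, ⟨hx, (D.commute_a_iff hx).2 (by rw [e, D.prW_elW])⟩, e⟩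

theorem elW_quad (u : IW m → ZMod 2) : Q8 (D.elW u) = QW m u := by
  have h0 := D.quad 0 0
  rw [Sum.elim_zero_zero, Matrix.mulVec_zero] at h0
  have hz : Cfsg.quadFormPlus 4 (ZMod 2) (0 : I8 → ZMod 2) = 0 := by decide +kernel
  rw [q8_apply, elW, D.quad, minusQ_apply, Sum.elim_zero_zero, Matrix.mulVec_zero, hz, add_zero]

theorem elW_polar (u v : IW m → ZMod 2) :
    QuadraticMap.polar (⇑Q8) (D.elW u) (D.elW v) = QuadraticMap.polar (⇑(QW m)) u v := by
  simp only [QuadraticMap.polar, ← D.elW_add, D.elW_quad]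

theorem nondeg (_D : SecData m d) : (QuadraticMap.polarBilin (QW m)).Nondegenerate :=
  minusQ_nondegenerate m (by decide)

/-- The coordinates on the elements centralized. -/
noncomputable def coordW : D.Qa →* Multiplicative (IW m → ZMod 2) where
  toFun x := Multiplicative.ofAdd (D.prW (gc x))
  map_one' := congrArg Multiplicative.ofAdd (by
    funext i; simp [prW, gc_one])
  map_mul' x y := congrArg Multiplicative.ofAdd (by
    rw [Subgroup.coe_mul, gc_mul x.2.1 y.2.1, D.prW_add]; rfl)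

theorem card_Qa : Nat.card D.Qa = 2 ^ (2 * m + 3) := by
  have := co0_finite
  have hs : Function.Surjective D.coordW := fun u => by
    obtain ⟨x, hx, e⟩ := D.exists_Qa u.toAdd
    refine ⟨⟨x, hx⟩, ?_⟩
    show Multiplicative.ofAdd (D.prW (gc x)) = u
    rw [e, D.prW_elW, ofAdd_toAdd]
  have hk : Nat.card D.coordW.ker = 2 := by
    have hw : (⟨wElt, wElt_mem, D.wElt_mem_T⟩ : D.Qa) ∈ D.coordW.ker :=
      congrArg Multiplicative.ofAdd (funext fun i => by simp [prW, gc_wElt])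
    rw [Nat.card_eq_two_iff]
    refine ⟨1, ⟨_, hw⟩, fun h => wElt_ne_one (congrArg (fun y : D.coordW.ker => ((y : D.Qa) : Co0)) h).symm,
      Set.eq_univ_iff_forall.2 fun y => ?_⟩
    have e : D.prW (gc ((y : D.Qa) : Co0)) = 0 := Multiplicative.ofAdd.injective y.2
    have := (D.commute_a_iff y.1.2.1).1 y.1.2.2
    rw [e, D.elW_zero] at this
    rcases gc_eq_zero y.1.2.1 this with r | r
    · exact Or.inl (Subtype.ext (Subtype.ext r))
    · exact Or.inr (Subtype.ext (Subtype.ext r))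
  rw [← D.coordW.ker.index_mul_card, hk, Subgroup.index_ker, MonoidHom.range_eq_top.2 hs,
    Subgroup.card_top, Nat.card_congr Multiplicative.toAdd, Nat.card_eq_fintype_card, Fintype.card_fun,
    ZMod.card, Fintype.card_sum, Fintype.card_sum, Fintype.card_fin, Fintype.card_fin, ← pow_succ]
  congr 1
  omega

theorem Qa_center {x : Co0} (hx : x ∈ D.Qa) (h : ∀ y ∈ D.Qa, y * x = x * y) : x = 1 ∨ x = wElt := by
  have hu : D.prW (gc x) = 0 := by
    refine D.nondeg.1 _ fun v => ?_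
    rw [QuadraticMap.polarBilin_apply_apply, ← D.elW_polar, ← (D.commute_a_iff hx.1).1 hx.2]
    obtain ⟨y, hy, e⟩ := D.exists_Qa v
    rw [← e]
    exact (polar_gc hx.1 hy.1).1 (h y hy).symm
  have := (D.commute_a_iff hx.1).1 hx.2
  rw [hu, D.elW_zero] at this
  exact gc_eq_zero hx.1 this

theorem Qa_noncomm : ∃ x ∈ D.Qa, ∃ y ∈ D.Qa, x * y ≠ y * x := by
  obtain ⟨x, hx, e⟩ := D.exists_Qa (fun _ => 1)
  refine ⟨x, hx, ?_⟩
  by_contra! hc
  have h0 : gc x = 0 := by
    rcases D.Qa_center hx fun y hy => (hc y hy).symm with r | r <;> rw [r]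
    exacts [gc_one, gc_wElt]
  rw [h0] at e
  have := congrArg D.prW e.symm
  rw [D.prW_elW] at this
  have h2 := congrFun this (.inr 0)
  simp [prW] at h2

theorem Qa_extraspecial : IsExtraspecial 2 D.Qa := by
  have := co0_finite
  refine (CfsgLib.LargeExtraspecial.isExtraspecial_of_props (z := wElt)
    (IsPGroup.of_card D.card_Qa) (orderOf_eq_prime (by rw [sq, wElt_sq]) wElt_ne_one)
    ⟨wElt_mem, D.wElt_mem_T⟩ ?_ ?_ ?_ (fun _ hx h => D.Qa_center hx h) D.Qa_noncomm).1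
  · exact fun x hx => (commute_wElt hx.1).eq
  · exact fun x hx => (quad_gc hx.1).imp And.right And.right
  · intro x hx y hy
    rcases commute_or_mul_w hx.1 hy.1 with c | c
    · left; rw [c.eq]; group
    · right
      rw [c, mul_assoc (y * x), ← ((commute_wElt hx.1).inv_left).eq]
      group
      rw [zpow_neg_one, (commute_wElt hy.1).eq, mul_inv_cancel_right]

/-- The extraspecial subgroup of the centralizer. -/
noncomputable def QS : Subgroup D.CS := (fixK.subgroupOf D.Dc).map D.projC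

instance QS_normal : D.QS.Normal :=
  (⟨fun x hx t => conj_fixK ⟨_, t.2.1⟩ hx⟩ : (fixK.subgroupOf D.Dc).Normal).map _ D.projC_surjective

theorem nonempty_Qa_equiv : Nonempty (D.Qa ≃* D.QS) := by
  let i : D.Qa →* D.Dc := Subgroup.inclusion (inf_le_inf_right _ fixK_le_C0)
  let f : D.Qa →* D.QS := (D.projC.comp i).codRestrict _ fun x => ⟨i x, x.2.1, rfl⟩
  refine ⟨MulEquiv.ofBijective f ⟨fun x y h => ?_, ?_⟩⟩
  · exact Subtype.ext (congrArg (fun v : D.Dc => (v : Co0))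
      (D.fixK_eq_of_proj (x := i x) (y := i y) x.2.1 y.2.1 (congrArg Subtype.val h)))
  · rintro ⟨_, t, ht, rfl⟩
    exact ⟨⟨t, ht, t.2.2⟩, rfl⟩

theorem card_QS : Nat.card D.QS = 2 ^ (2 * m + 3) := by
  obtain ⟨e⟩ := D.nonempty_Qa_equiv
  rw [← Nat.card_congr e.toEquiv, D.card_Qa]

theorem extraspecial_QS : IsExtraspecial 2 D.QS := by
  obtain ⟨e⟩ := D.nonempty_Qa_equiv
  exact CfsgLib.LargeExtraspecial.isExtraspecial_of_mulEquiv e D.Qa_extraspecial

theorem not_weakly_closed : ∃ g : D.S,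
    (∃ hq : g * D.zS * g⁻¹ ∈ D.CS, (⟨g * D.zS * g⁻¹, hq⟩ : D.CS) ∈ D.QS) ∧
      g * D.zS * g⁻¹ ≠ D.zS := by
  have hg : D.g0 ∈ D.T := D.mem_T.2 D.g0_a
  have hk : kElt D.k = D.g0 * epsCo0 * D.g0⁻¹ := by rw [D.g0_eps, mul_inv_cancel_right]
  have hkT : kElt D.k ∈ D.T := hk ▸ mul_mem (mul_mem hg D.eps_mem_T) (inv_mem hg)
  let t : D.Dc := ⟨kElt D.k, fixK_le_C0 (kElt_mem_fixK _), hkT⟩
  have e : D.proj ⟨D.g0, hg⟩ * D.zS * (D.proj ⟨D.g0, hg⟩)⁻¹ = (D.projC t : D.S) := by
    rw [zS, ← map_mul, ← map_inv, ← map_mul, projC_coe]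
    exact congrArg D.proj (Subtype.ext hk.symm)
  refine ⟨D.proj ⟨D.g0, hg⟩, ⟨e ▸ (D.projC t).2, ?_⟩, ?_⟩
  · rw [show (⟨_, e ▸ (D.projC t).2⟩ : D.CS) = D.projC t from Subtype.ext e]
    exact ⟨t, kElt_mem_fixK _, rfl⟩
  · rw [e]
    intro h
    have hw : D.projC ⟨wElt, fixK_le_C0 wElt_mem, D.wElt_mem_T⟩ = D.projC t :=
      Subtype.ext (by rw [h, projC_coe]; exact D.proj_wElt)
    have := congrArg Subtype.val (D.fixK_eq_of_proj (by exact wElt_mem) (by exact kElt_mem_fixK _) hw)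
    refine D.k_ne ?_
    rw [← gc_kElt, show kElt D.k = wElt from this.symm, gc_wElt]

end SecData

end CfsgLib.CoOneSection
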