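import Cfsg.Agent.CoOneSection.Build

/-!
An element of order five of the lattice group commuting with the octad involution, with its section data.
-/

set_option autoImplicit false

namespace CfsgLib.CoOneSection.J2

open Cfsg CfsgLib.Leech CfsgLib.CoOneInv
open scoped Matrix

/-- Moves for the element. -/
def aMoves : List Mv :=
  [.mono 74329785441422908392213862416252656328815381721660853761 14575325,
    .xi,
    .mono 344719840104423664944691101486490879798482984439927341591 14971901]

/-- Moves for an element commuting with it. -/
def gMoves : List Mv :=
  [.mono 2110193586789755799719264912970899728855215368515223811 16375189,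
    .mono 26342400757909517596367409185870982204224464163170354446 10923185,
    .mono 124614432923699121925960902742096357621482246372319235586 9824036,
    .mono 418854309056287477719810875402257052829212594035186860801 2862560,
    .mono 566073426779046459040877649791461066728553822781039575296 0,
    .mono 515880427061582143414982231071896576053554089980786511876 0]

/-- Conjugates of the basis. -/
def yList : List (Fin 16 × Fin 32) :=
  [(15, 0), (12, 25), (15, 6), (12, 21), (14, 30), (5, 17), (14, 17), (5, 31)]

/-- Columns of the adapted basis. -/
def pCols : List ℕ := [5, 20, 113, 140, 6, 32, 174, 215]

/-- Columns of its inverse. -/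
def rCols : List ℕ := [121, 104, 120, 196, 122, 32, 39, 180]

/-- Columns of the action on the moved coordinates. -/
def aCols : List ℕ := [2, 4, 8, 15]

set_option synthInstance.maxSize 4000
set_option synthInstance.maxHeartbeats 400000

/-- The checks. -/
theorem spec : dataOK 5 aMoves gMoves yList (0, 6) = true := by decide +kernel

theorem alg : algOK 1 4 5 yList pCols rCols aCols := by
  refine ⟨?_, ?_, ?_, ?_, ?_, ?_, ?_, ?_, ?_, ?_⟩ <;> decide +kernel

/-- The section data. -/
noncomputable def data : SecData 1 4 :=
  mkData (by norm_num : Nat.Prime 5) (by norm_num) spec (by decide +kernel) alg

end CfsgLib.CoOneSection.J2
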