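import Cfsg.Agent.CoOneInv.Centralizer

/-!
Elements of the automorphism group of the lattice described by move lists.
-/

set_option autoImplicit false

namespace CfsgLib.CoOneSection

open Cfsg CfsgLib.Mathieu CfsgLib.Leech CfsgLib.CoOneInv

/-- The element acts as the move list. -/
def HasMoves (g : Co0) (ms : List Mv) : Prop :=
  ∀ (l : List ℤ) (hl : vec l ∈ leechLattice),
    ((g • (⟨vec l, hl⟩ : leechLattice) : leechLattice) : GolayPt → ℤ) = vec (runMoves ms l)

theorem HasMoves.mul {g h : Co0} {a b : List Mv} (hg : HasMoves g a) (hh : HasMoves h b) :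
    HasMoves (g * h) (b ++ a) := fun l hl => by
  have hm : vec (runMoves b l) ∈ leechLattice := by
    rw [← hh l hl]; exact (h • (⟨vec l, hl⟩ : leechLattice)).2
  rw [mul_smul, show h • (⟨vec l, hl⟩ : leechLattice) = ⟨_, hm⟩ from Subtype.ext (hh l hl), hg _ hm,
    runMoves, runMoves, runMoves, List.foldl_append]

theorem HasMoves.one : HasMoves 1 [] := fun l hl => by rw [one_smul]; rfl

theorem HasMoves.pow {g : Co0} {a : List Mv} (hg : HasMoves g a) :
    ∀ n : ℕ, HasMoves (g ^ n) (List.replicate n a).flatten
  | 0 => by rw [pow_zero]; exact HasMoves.one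
  | n + 1 => by
    rw [pow_succ', List.replicate_succ', List.flatten_append, List.flatten_cons, List.flatten_nil,
      List.append_nil]
    exact hg.mul (HasMoves.pow hg n)

/-- Two move lists agree on the frame. -/
def sameMoves (a b : List Mv) : Bool :=
  (List.range 24).all fun j =>
    runMoves a ((List.range 24).map fun i => if i = j then (8 : ℤ) else 0) ==
      runMoves b ((List.range 24).map fun i => if i = j then (8 : ℤ) else 0)

theorem HasMoves.eq {g h : Co0} {a b : List Mv} (hg : HasMoves g a) (hh : HasMoves h b)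
    (hab : sameMoves a b = true) : g = h :=
  co0_eq_of_moves hg hh hab

theorem HasMoves.commute {g h : Co0} {a b : List Mv} (hg : HasMoves g a) (hh : HasMoves h b)
    (hab : sameMoves (b ++ a) (a ++ b) = true) : g * h = h * g :=
  (hg.mul hh).eq (hh.mul hg) hab

theorem hasMoves_eps : HasMoves epsCo0 [epsMv] := fun l hl => epsMv_spec l hl

/-- An element fixing the sublattice pointwise as a move. -/
def kMv (x : Fin 16 × Fin 32) : Mv := .mono (octadTranslations.getD x.1 0) (offWords.getD x.2 0)

theorem hasMoves_kElt (x : Fin 16 × Fin 32) : HasMoves (kElt x) [kMv x] := fun l hl => by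
  funext p
  have hlt : ∀ i : Fin 16, ∀ a < 24, app (octadTranslations.getD i 0) a < 24 := by decide +kernel
  rw [kElt_smul]
  show _ = vec ((kMv x).act l) p
  rw [kMv, Mv.act, vec_map_range]
  simp only [offSet, mem_setOf24, vec, transPerm_apply, tableFun, idx_pt (hlt x.1 _ (idx_lt p))]

theorem exists_hasMoves {ms : List Mv} (h : ms.all Mv.ok = true) : ∃ g : Co0, HasMoves g ms :=
  (runMoves_spec ms h).imp fun _ hg => hg.2

end CfsgLib.CoOneSection
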