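import Cfsg.Agent.LargeExtraspecial.Simplicity

/-!
Simplicity from an irreducible action on the extraspecial subgroup and an involution which is not weakly
closed, with no assumption on the closure of the conjugates.
-/

set_option autoImplicit false

namespace CfsgLib.CoOneSection

open CfsgLib.LargeExtraspecial

/-- Simplicity when `C(z)/Q` is simple and acts irreducibly on `Q/⟨z⟩`. -/
theorem isSimpleGroup_of_irreducible {G : Type*} [Group G] [Finite G] {z : G} (hz : orderOf z = 2)
    (Q : Subgroup (Subgroup.centralizer ({z} : Set G))) [Q.Normal]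
    (hF : Cfsg.generalizedFittingSubgroup ↥(Subgroup.centralizer ({z} : Set G)) = Q)
    (hQ : Cfsg.IsExtraspecial 2 ↥Q) (h32 : 32 ≤ Nat.card Q)
    (hnwc : ∃ g : G, (∃ hq : g * z * g⁻¹ ∈ Subgroup.centralizer ({z} : Set G),
      (⟨g * z * g⁻¹, hq⟩ : Subgroup.centralizer ({z} : Set G)) ∈ Q) ∧ g * z * g⁻¹ ≠ z)
    (hsimp : IsSimpleGroup (↥(Subgroup.centralizer ({z} : Set G)) ⧸ Q))
    (hirr : ∀ W : Subgroup (Subgroup.centralizer ({z} : Set G)), W.Normal → W ≤ Q →
      (W = Q ∨ ∀ x ∈ W, (x : G) ∈ Subgroup.zpowers z)) :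
    IsSimpleGroup G := by
  set Q' := Q.map (Subgroup.centralizer ({z} : Set G)).subtype with hQ'
  have e : Q ≃* Q' := Q.equivMapOfInjective _ (Subgroup.centralizer ({z} : Set G)).subtype_injective
  have hQ'E : Cfsg.IsExtraspecial 2 Q' := isExtraspecial_of_mulEquiv e hQ
  have h : IsZSub Q' z := isZSub_of_generalizedFitting hz (Subgroup.map_subtype_le _)
    (by rw [hF]) hQ'E
  obtain ⟨g, ⟨hq, hgQ⟩, hne⟩ := hnwc
  have hgQ' : g * z * g⁻¹ ∈ Q' := ⟨_, hgQ, rfl⟩
  have h32' : 32 ≤ Nat.card Q' := by rwa [← Nat.card_congr e.toEquiv]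
  have hlarge := isLarge_of_pairData (pairData_of_mem h (by omega) hgQ' hne)
  refine h.isSimpleGroup hlarge ?_
  set M := Subgroup.normalClosure ({z} : Set G) with hM
  have hMn : M.Normal := Subgroup.normalClosure_normal
  have hzM : z ∈ M := Subgroup.subset_normalClosure (Set.mem_singleton z)
  set W := M.subgroupOf (Subgroup.centralizer ({z} : Set G)) with hW
  have hWn : W.Normal := hMn.comap _
  have hQW : Q ≤ W := by
    rcases hirr (W ⊓ Q) inferInstance inf_le_right with e' | e'
    · exact e' ▸ inf_le_left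
    · exfalso
      rcases mem_zpowers_two hz (e' ⟨g * z * g⁻¹, hq⟩ ⟨hMn.conj_mem z hzM g, hgQ⟩) with r | r
      · exact h.ne_one (conj_eq_one_iff.mp r)
      · exact hne r
  rcases (hWn.map _ (QuotientGroup.mk'_surjective Q)).eq_bot_or_eq_top with e' | e'
  · exfalso
    have hWQ : W ≤ Q := by
      intro x hx
      have : QuotientGroup.mk' Q x ∈ W.map (QuotientGroup.mk' Q) := ⟨x, hx, rfl⟩
      rw [e', Subgroup.mem_bot, QuotientGroup.mk'_apply, QuotientGroup.eq_one_iff] at this
      exact this
    have hMQ : ∀ x, x ∈ M → x * z = z * x → x ∈ Q' := fun x hx hc =>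
      ⟨⟨x, Subgroup.mem_centralizer_singleton_iff.2 hc⟩, hWQ hx, rfl⟩
    have hQM : ∀ x, x ∈ Q' → x ∈ M := by
      rintro _ ⟨x, hx, rfl⟩
      exact hQW hx
    set z' := g * z * g⁻¹ with hz'
    -- the centralizer in `Q` of the other conjugate lies in both subgroups
    have hR : ∀ x ∈ Q', x * z' = z' * x → g⁻¹ * x * g ∈ Q' := by
      intro x hx hc
      refine hMQ _ (by simpa using hMn.conj_mem x (hQM x hx) g⁻¹) ?_
      calc g⁻¹ * x * g * z = g⁻¹ * (x * z') * g := by rw [hz']; group
        _ = g⁻¹ * (z' * x) * g := by rw [hc]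
        _ = z * (g⁻¹ * x * g) := by rw [hz']; group
    have hzz : g⁻¹ * z * g ≠ z := fun e => hne (by
      calc g * z * g⁻¹ = g * (g⁻¹ * z * g) * g⁻¹ := by rw [e]
        _ = z := by group)
    -- so it is abelian
    have hab : ∀ x ∈ Q', x * z' = z' * x → ∀ y ∈ Q', y * z' = z' * y → x * y = y * x := by
      intro x hx hcx y hy hcy
      by_contra hne'
      have e1 := h.conj_of_not_commute hx hy hne'
      have hne'' : g⁻¹ * x * g * (g⁻¹ * y * g) ≠ g⁻¹ * y * g * (g⁻¹ * x * g) := fun e => hne' (by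
        calc x * y = g * (g⁻¹ * x * g * (g⁻¹ * y * g)) * g⁻¹ := by group
          _ = g * (g⁻¹ * y * g * (g⁻¹ * x * g)) * g⁻¹ := by rw [e]
          _ = y * x := by group)
      have e2 := h.conj_of_not_commute (hR x hx hcx) (hR y hy hcy) hne''
      refine hzz ?_
      have e3 : g⁻¹ * (x * y * x⁻¹) * g = g⁻¹ * x * g * (g⁻¹ * y * g) * (g⁻¹ * x * g)⁻¹ := by group
      rw [e1, e2] at e3
      exact mul_right_cancel (b := g⁻¹ * y * g) (Eq.trans (by group) e3)
    have hz1 : z' ≠ 1 := fun e => h.ne_one (conj_eq_one_iff.mp e)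
    obtain ⟨x, hx, hxz⟩ := h.exists_not_commute hz1 hne
    -- the centralizer of `z'` in `Q` has order at most four
    have hbound : ∀ r ∈ Q', r * z' = z' * r → x * r = r * x → r = 1 ∨ r = z := by
      intro r hr hrz hrx
      refine h.mem_of_commutes fun q hq => ?_
      by_cases hq' : q * z' = z' * q
      · exact hab q hq hq' r hr hrz
      · have e1 := h.conj_of_not_commute hx hgQ' hxz
        have e2 := h.conj_of_not_commute hq hgQ' hq'
        have hxq : x⁻¹ * q * z' = z' * (x⁻¹ * q) := by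
          have e3 : q * z' * q⁻¹ = x * z' * x⁻¹ := e2.trans e1.symm
          calc x⁻¹ * q * z' = x⁻¹ * (q * z' * q⁻¹) * q := by group
            _ = x⁻¹ * (x * z' * x⁻¹) * q := by rw [e3]
            _ = z' * (x⁻¹ * q) := by group
        have e4 := hab _ (Q'.mul_mem (Q'.inv_mem hx) hq) hxq r hr hrz
        calc q * r = x * (x⁻¹ * q * r) := by group
          _ = x * (r * (x⁻¹ * q)) := by rw [e4]
          _ = x * r * (x⁻¹ * q) := by group
          _ = r * x * (x⁻¹ * q) := by rw [hrx]
          _ = r * q := by group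
    classical
    -- a map of `Q` with small fibres
    let f : Q' → Bool × Bool := fun q =>
      (decide ((q : G) * z' = z' * q), decide ((q : G) * x = x * q))
    have hsmall : ∀ q q' : Q', f q = f q' → (q : G)⁻¹ * q' = 1 ∨ (q : G)⁻¹ * q' = z := by
      intro q q' e
      simp only [f, Prod.mk.injEq, decide_eq_decide] at e
      have hconj : ∀ y ∈ Q', ((q : G) * y = y * q ↔ (q' : G) * y = y * q') →
          (q : G)⁻¹ * q' * y = y * ((q : G)⁻¹ * q') := by
        intro y hy e0
        by_cases hc : (q : G) * y = y * q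
        · have hc' : Commute ((q : G)⁻¹) y := Commute.inv_left hc
          exact (Commute.mul_left hc' (e0.1 hc)).eq
        · have e3 := h.conj_of_not_commute q.2 hy hc
          have e4 := h.conj_of_not_commute q'.2 hy (mt e0.2 hc)
          calc (q : G)⁻¹ * q' * y = (q : G)⁻¹ * ((q' : G) * y * (q' : G)⁻¹) * q' := by group
            _ = (q : G)⁻¹ * ((q : G) * y * (q : G)⁻¹) * q' := by rw [e4, ← e3]
            _ = y * ((q : G)⁻¹ * q') := by group
      exact hbound _ (Q'.mul_mem (Q'.inv_mem q.2) q'.2) (hconj z' hgQ' e.1) (hconj x hx e.2).symm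
    have : Fintype Q' := Fintype.ofFinite _
    have hfib : ∀ b ∈ (Finset.univ : Finset Q').image f,
        (Finset.univ.filter fun q => f q = b).card ≤ 2 := by
      intro b hb
      obtain ⟨q0, -, rfl⟩ := Finset.mem_image.1 hb
      refine le_trans (Finset.card_le_card (t := {q0, q0 * ⟨z, h.z_mem⟩}) fun q hq => ?_)
        Finset.card_le_two
      rcases hsmall q0 q (Finset.mem_filter.1 hq).2.symm with r | r
      · exact Finset.mem_insert.2 (Or.inl (Subtype.ext (inv_mul_eq_one.1 r).symm))
      · refine Finset.mem_insert.2 (Or.inr (Finset.mem_singleton.2 (Subtype.ext ?_)))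
        show (q : G) = q0 * z
        rw [← r, mul_inv_cancel_left]
    have h1 := Finset.card_le_mul_card_image (Finset.univ : Finset Q') 2 hfib
    have h2 : ((Finset.univ : Finset Q').image f).card ≤ 4 := by
      refine (Finset.card_le_univ _).trans (le_of_eq ?_)
      simp
    rw [Finset.card_univ, ← Nat.card_eq_fintype_card] at h1
    omega
  · intro x hx
    have hxW : QuotientGroup.mk' Q ⟨x, hx⟩ ∈ W.map (QuotientGroup.mk' Q) := e' ▸ Subgroup.mem_top _
    obtain ⟨w, hw, hwx⟩ := hxW
    rw [QuotientGroup.mk'_apply, QuotientGroup.mk'_apply, QuotientGroup.eq] at hwx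
    have := W.mul_mem hw (hQW hwx)
    rwa [mul_inv_cancel_left] at this

end CfsgLib.CoOneSection
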