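import Cfsg.Agent.CoOneSection.Frame
import Cfsg.Agent.CoOneSection.Simple

/-!
The involution centralizer of the section modulo its extraspecial subgroup is the commutator subgroup of
the orthogonal group of minus type, and the section is simple.
-/

set_option autoImplicit false

namespace CfsgLib.CoOneSection

open Cfsg CfsgLib.Mathieu CfsgLib.Leech CfsgLib.CoOneInv CfsgLib.Spinor CfsgLib.StdForms
  CfsgLib.Transpositions
open scoped Matrix

variable {m d : ℕ} (D : SecData m d)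

namespace SecData

/-- The action on the centralized coordinates. -/
noncomputable def psiW (g : C0) : Matrix (IW m) (IW m) (ZMod 2) :=
  (D.R * chiMat g * D.P).toBlocks₁₁

/-- The action on the moved coordinates. -/
noncomputable def psiK (g : C0) : Matrix (Fin d) (Fin d) (ZMod 2) :=
  (D.R * chiMat g * D.P).toBlocks₂₂

theorem coe_Dc_pow (g : C0) (n : ℕ) : chiMat (g ^ n) = chiMat g ^ n := by
  induction n with
  | zero => rw [pow_zero, pow_zero, chiMat_one]
  | succ n ih => rw [pow_succ, pow_succ, chiMat_mul, ih]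

theorem conj_mul' (X Y : Matrix I8 I8 (ZMod 2)) :
    D.R * (X * Y) * D.P = (D.R * X * D.P) * (D.R * Y * D.P) := by
  calc D.R * (X * Y) * D.P = D.R * (X * ((D.P * D.R) * Y)) * D.P := by rw [D.PR, Matrix.one_mul]
    _ = _ := by simp only [Matrix.mul_assoc]

theorem conj_cancel (X : Matrix I8 I8 (ZMod 2)) : D.P * (D.R * X * D.P) * D.R = X := by
  simp only [← Matrix.mul_assoc]
  rw [D.PR, Matrix.one_mul, Matrix.mul_assoc, D.PR, Matrix.mul_one]

theorem eq_zero_of_mul {ι : Type} [Fintype ι] [DecidableEq ι] {Z : Matrix ι (Fin d) (ZMod 2)}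
    (h : Z * D.A' = Z) : Z = 0 := by
  have hp : ∀ i : ℕ, Z * D.A' ^ i = Z := fun i => by
    induction i with
    | zero => rw [pow_zero, Matrix.mul_one]
    | succ i ih => rw [pow_succ, ← Matrix.mul_assoc, ih, h]
  have := congrArg (fun X : Matrix (Fin d) (Fin d) (ZMod 2) => Z * X) D.sum_A
  simp only [Matrix.mul_sum, hp, Matrix.mul_zero, Finset.sum_const, Finset.card_univ, Fintype.card_fin,
    D.r_smul] at this
  exact this

theorem eq_zero_of_mul_left {ι : Type} [Fintype ι] [DecidableEq ι] {Z : Matrix (Fin d) ι (ZMod 2)}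
    (h : D.A' * Z = Z) : Z = 0 := by
  have hp : ∀ i : ℕ, D.A' ^ i * Z = Z := fun i => by
    induction i with
    | zero => rw [pow_zero, Matrix.one_mul]
    | succ i ih => rw [pow_succ', Matrix.mul_assoc, ih, h]
  have := congrArg (fun X : Matrix (Fin d) (Fin d) (ZMod 2) => X * Z) D.sum_A
  simp only [Matrix.sum_mul, hp, Matrix.zero_mul, Finset.sum_const, Finset.card_univ, Fintype.card_fin,
    D.r_smul] at this
  exact this

theorem blocks {g : C0} (hg : (g : Co0) ∈ D.T) :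
    D.R * chiMat g * D.P = blk (D.psiW g) (D.psiK g) ∧ D.psiK g * D.A' = D.A' * D.psiK g := by
  have hc : g * D.a = D.a * g := Subtype.ext (D.mem_T.1 hg).eq
  obtain ⟨N, hN⟩ : ∃ N : Matrix (IW m ⊕ Fin d) (IW m ⊕ Fin d) (ZMod 2), N = D.R * chiMat g * D.P :=
    ⟨_, rfl⟩
  have e : N * blk 1 D.A' = blk 1 D.A' * N := by
    rw [hN, ← D.hA, ← D.conj_mul', ← D.conj_mul', ← chiMat_mul, ← chiMat_mul, hc]
  rw [← Matrix.fromBlocks_toBlocks N, blk, Matrix.fromBlocks_multiply, Matrix.fromBlocks_multiply] at e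
  simp only [Matrix.mul_one, Matrix.one_mul, Matrix.mul_zero, Matrix.zero_mul, add_zero, zero_add,
    Matrix.fromBlocks_inj] at e
  obtain ⟨-, e12, e21, e22⟩ := e
  refine ⟨?_, by simpa only [psiK, ← hN] using e22⟩
  rw [psiW, psiK, ← hN]
  conv_lhs => rw [← Matrix.fromBlocks_toBlocks N, D.eq_zero_of_mul e12, D.eq_zero_of_mul_left e21.symm]
  rfl

theorem chiMat_eq {g : C0} (hg : (g : Co0) ∈ D.T) :
    chiMat g = D.P * blk (D.psiW g) (D.psiK g) * D.R := by
  rw [← (D.blocks hg).1, D.conj_cancel]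

theorem chi_act {g : C0} (hg : (g : Co0) ∈ D.T) (u : IW m → ZMod 2) (v : Fin d → ZMod 2) :
    chiMat g *ᵥ (D.P *ᵥ Sum.elim u v) = D.P *ᵥ Sum.elim (D.psiW g *ᵥ u) (D.psiK g *ᵥ v) := by
  rw [D.chiMat_eq hg, ← Matrix.mulVec_mulVec, ← Matrix.mulVec_mulVec, D.R_P, blocks_mulVec]

theorem chi_elW {g : C0} (hg : (g : Co0) ∈ D.T) (u : IW m → ZMod 2) :
    chiMat g *ᵥ D.elW u = D.elW (D.psiW g *ᵥ u) := by
  rw [elW, elW, D.chi_act hg, Matrix.mulVec_zero]

theorem psiW_quad {g : C0} (hg : (g : Co0) ∈ D.T) (u : IW m → ZMod 2) :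
    QW m (D.psiW g *ᵥ u) = QW m u := by
  rw [← D.elW_quad, ← D.chi_elW hg, quad_chiMat, D.elW_quad]

theorem psiK_pow {g : C0} (hg : (g : Co0) ∈ D.T) : ∃ k : ℕ, D.psiK g = D.A' ^ k := by
  refine D.cent _ (D.blocks hg).2 fun v => ?_
  have h := quad_chiMat g (D.P *ᵥ Sum.elim 0 v)
  rwa [D.chi_act hg, Matrix.mulVec_zero, q8_apply, q8_apply] at h

theorem psiW_mul {g h : C0} (hg : (g : Co0) ∈ D.T) (hh : (h : Co0) ∈ D.T) :
    D.psiW (g * h) = D.psiW g * D.psiW h := by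
  rw [psiW, chiMat_mul, D.conj_mul', (D.blocks hg).1, (D.blocks hh).1, blk_mul]
  exact Matrix.toBlocks_fromBlocks₁₁ _ _ _ _

theorem psiW_of_chi {g : C0} (h : chiMat g = 1) : D.psiW g = 1 := by
  rw [psiW, h, Matrix.mul_one, D.RP, ← blk_one]
  exact Matrix.toBlocks_fromBlocks₁₁ _ _ _ _

theorem psiW_a : D.psiW D.a = 1 := by
  rw [psiW, D.hA]
  exact Matrix.toBlocks_fromBlocks₁₁ _ _ _ _

/-- An element of the intersection as an element of the centralizer. -/
def toC0 : D.Dc →* C0 := Subgroup.inclusion inf_le_left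

/-- The action on the centralized coordinates as a homomorphism. -/
noncomputable def psiHomW : D.Dc →* ↥(Cfsg.isometryGroup (ZMod 2) ⇑(QW m)) :=
  (MonoidHom.toHomUnits
    { toFun := fun t => D.psiW (D.toC0 t)
      map_one' := by rw [map_one]; exact D.psiW_of_chi chiMat_one
      map_mul' := fun s t => by rw [map_mul]; exact D.psiW_mul s.2.2 t.2.2 }).codRestrict _
    fun t u _ => D.psiW_quad (g := D.toC0 t) t.2.2 u

theorem psiHomW_mat (t : D.Dc) : mat (QW m) (D.psiHomW t) = D.psiW (D.toC0 t) := rfl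

/-! ### Extending isometries by the identity -/

/-- A matrix extended by the identity. -/
def liftM (X : Matrix (IW m) (IW m) (ZMod 2)) : Matrix I8 I8 (ZMod 2) :=
  D.P * blk X (1 : Matrix (Fin d) (Fin d) (ZMod 2)) * D.R

theorem liftM_one : D.liftM 1 = 1 := by rw [liftM, blk_one, Matrix.mul_one, D.PR]

theorem liftM_mul (X Y : Matrix (IW m) (IW m) (ZMod 2)) : D.liftM (X * Y) = D.liftM X * D.liftM Y := by
  calc D.liftM (X * Y)
      = D.P * (blk X (1 : Matrix (Fin d) (Fin d) (ZMod 2)) *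
          ((D.R * D.P) * blk Y (1 : Matrix (Fin d) (Fin d) (ZMod 2)))) * D.R := by
        rw [D.RP, Matrix.one_mul, blk_mul, Matrix.one_mul]; rfl
    _ = _ := by simp only [liftM, Matrix.mul_assoc]

theorem liftM_act (X : Matrix (IW m) (IW m) (ZMod 2)) (u : IW m → ZMod 2) (v : Fin d → ZMod 2) :
    D.liftM X *ᵥ (D.P *ᵥ Sum.elim u v) = D.P *ᵥ Sum.elim (X *ᵥ u) v := by
  rw [liftM, ← Matrix.mulVec_mulVec, ← Matrix.mulVec_mulVec, D.R_P, blocks_mulVec, Matrix.one_mulVec]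

theorem ext_quad (h : ↥(Cfsg.isometryGroup (ZMod 2) ⇑(QW m))) (v : I8 → ZMod 2) :
    Q8 (D.liftM (mat (QW m) h) *ᵥ v) = Q8 v := by
  rw [← D.P_pr v]
  generalize D.prW v = a
  generalize D.prK v = b
  rw [D.liftM_act, q8_apply, q8_apply, D.quad (mat (QW m) h *ᵥ a) b, D.quad a b]
  have := quad_mulVec (QW m) h a
  rw [minusQ_apply, minusQ_apply] at this
  rw [this]

/-- Extension by the identity. -/
noncomputable def extW : ↥(Cfsg.isometryGroup (ZMod 2) ⇑(QW m)) →* ↥(Cfsg.isometryGroup (ZMod 2) ⇑Q8) :=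
  (MonoidHom.toHomUnits
    { toFun := fun h => D.liftM (mat (QW m) h)
      map_one' := by rw [mat_one, D.liftM_one]
      map_mul' := fun g h => by rw [mat_mul, D.liftM_mul] }).codRestrict _
    fun h u _ => D.ext_quad h u

theorem extW_mat (h : ↥(Cfsg.isometryGroup (ZMod 2) ⇑(QW m))) :
    mat Q8 (D.extW h) = D.liftM (mat (QW m) h) := rfl

theorem extW_omega {h : ↥(Cfsg.isometryGroup (ZMod 2) ⇑(QW m))}
    (hh : h ∈ Cfsg.Omega (ZMod 2) ⇑(QW m)) : D.extW h ∈ Cfsg.Omega (ZMod 2) ⇑Q8 := by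
  have := Subgroup.mem_map_of_mem D.extW hh
  rw [Cfsg.Omega, commutator_def, Subgroup.map_commutator] at this
  exact Subgroup.commutator_mono le_top le_top this

theorem polar_P (u a : IW m → ZMod 2) (b : Fin d → ZMod 2) :
    QuadraticMap.polar (⇑Q8) (D.elW u) (D.P *ᵥ Sum.elim a b) = QuadraticMap.polar (⇑(QW m)) u a := by
  have h0 : Cfsg.quadFormPlus 4 (ZMod 2) (D.P *ᵥ Sum.elim 0 (0 : Fin d → ZMod 2)) = 0 := by
    rw [Sum.elim_zero_zero, Matrix.mulVec_zero]; decide +kernel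
  have hs : D.elW u + D.P *ᵥ Sum.elim a b = D.P *ᵥ Sum.elim (u + a) b := by
    rw [elW, ← Matrix.mulVec_add]
    exact congrArg _ (funext fun i => by cases i <;> simp)
  simp only [QuadraticMap.polar, q8_apply, minusQ_apply, hs]
  rw [elW, D.quad (u + a) b, D.quad u 0, D.quad a b, h0]
  ring

theorem extW_tv (u : IW m → ZMod 2) (hu : QW m u = 1) :
    D.extW (tv (QW m) u hu) = tv Q8 (D.elW u) (by rw [D.elW_quad, hu]) := by
  refine mat_ext Q8 (Matrix.ext_iff_mulVec.2 fun x => ?_)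
  rw [← D.P_pr x]
  generalize D.prW x = a
  generalize D.prK x = b
  rw [D.extW_mat, D.liftM_act, tv_apply, tv_apply, D.polar_P, elW, ← Matrix.mulVec_smul,
    ← Matrix.mulVec_add]
  exact congrArg _ (funext fun i => by cases i <;> simp)

/-! ### The image -/

theorem tv_not_mem (v : I8 → ZMod 2) (hv : Q8 v = 1) : tv Q8 v hv ∉ Cfsg.Omega (ZMod 2) ⇑Q8 := by
  have hnd : (QuadraticMap.polarBilin Q8).Nondegenerate := plusQ_nondegenerate 4
  have hexc : Nat.card (ZMod 2) ≠ 2 ∨ Fintype.card I8 ≠ 4 := Or.inr (by simp)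
  have hgen := CfsgLib.Forms.exists_isReflProd_charTwo hnd hexc
  rw [CfsgLib.Forms.omega_eq_ker_charTwo hnd hgen hexc, MonoidHom.mem_ker]
  intro h
  have h2 := CfsgLib.Forms.parityHom_reflIso hnd hgen v (by rw [hv]; exact one_ne_zero)
  rw [tv] at h
  exact absurd (h.symm.trans h2) (by decide)

include D in
theorem exists_tv : ∃ u, QW m u = 1 := by
  obtain ⟨u, hu, -⟩ := D.two_sum 0
  exact ⟨u, by rw [minusQ_apply]; exact hu⟩

theorem comap_extW (hidx : (Cfsg.Omega (ZMod 2) ⇑(QW m)).index = 2) :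
    (Cfsg.Omega (ZMod 2) ⇑Q8).comap D.extW = Cfsg.Omega (ZMod 2) ⇑(QW m) := by
  have hle : Cfsg.Omega (ZMod 2) ⇑(QW m) ≤ (Cfsg.Omega (ZMod 2) ⇑Q8).comap D.extW :=
    fun h hh => D.extW_omega hh
  refine le_antisymm (fun h hh => ?_) hle
  by_contra hn
  obtain ⟨u, hu⟩ := D.exists_tv
  have ht : tv (QW m) u hu ∉ (Cfsg.Omega (ZMod 2) ⇑Q8).comap D.extW := fun h' => by
    rw [Subgroup.mem_comap, D.extW_tv u hu] at h'
    exact tv_not_mem _ _ h'
  have hmem : h * tv (QW m) u hu ∈ Cfsg.Omega (ZMod 2) ⇑(QW m) :=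
    (Subgroup.mul_mem_iff_of_index_two hidx).2 (iff_of_false hn fun h' => ht (hle h'))
  exact ht ((Subgroup.mul_mem_cancel_left _ hh).1 (hle hmem))

include D in
theorem tv_mul_mem (hidx : (Cfsg.Omega (ZMod 2) ⇑(QW m)).index = 2) {u v : IW m → ZMod 2}
    (hu : QW m u = 1) (hv : QW m v = 1) :
    tv (QW m) u hu * tv (QW m) v hv ∈ Cfsg.Omega (ZMod 2) ⇑(QW m) := by
  have h : ∀ w (hw : QW m w = 1), tv (QW m) w hw ∉ Cfsg.Omega (ZMod 2) ⇑(QW m) := fun w hw h' => by
    have := D.extW_omega h'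
    rw [D.extW_tv w hw] at this
    exact tv_not_mem _ _ this
  exact (Subgroup.mul_mem_iff_of_index_two hidx).2 (iff_of_false (h u hu) (h v hv))

theorem chiQ_mem (g : C0) : chiQ g ∈ Cfsg.Omega (ZMod 2) ⇑Q8 := range_chiQ ▸ ⟨g, rfl⟩

theorem chi_decomp {g : C0} (hg : (g : Co0) ∈ D.T) :
    ∃ k : ℕ, chiMat g = D.liftM (D.psiW g) * chiMat (D.a ^ k) := by
  obtain ⟨k, hk⟩ := D.psiK_pow hg
  refine ⟨k, Matrix.ext_iff_mulVec.2 fun x => ?_⟩
  rw [← D.P_pr x]
  generalize D.prW x = a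
  generalize D.prK x = b
  have hp : ∀ n : ℕ, ∀ c, chiMat D.a ^ n *ᵥ (D.P *ᵥ Sum.elim a c) =
      D.P *ᵥ Sum.elim a (D.A' ^ n *ᵥ c) := by
    intro n
    induction n with
    | zero => intro c; rw [pow_zero, pow_zero, Matrix.one_mulVec, Matrix.one_mulVec]
    | succ n ih =>
      intro c
      rw [pow_succ', pow_succ', ← Matrix.mulVec_mulVec, ih c, D.chi_a_P, ← Matrix.mulVec_mulVec]
  rw [D.chi_act hg, ← Matrix.mulVec_mulVec, coe_Dc_pow, hp, D.liftM_act, hk]

theorem psiHomW_mem (hidx : (Cfsg.Omega (ZMod 2) ⇑(QW m)).index = 2) (t : D.Dc) :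
    D.psiHomW t ∈ Cfsg.Omega (ZMod 2) ⇑(QW m) := by
  obtain ⟨k, hk⟩ := D.chi_decomp (g := D.toC0 t) t.2.2
  rw [← D.comap_extW hidx, Subgroup.mem_comap]
  have e : D.extW (D.psiHomW t) = chiQ (D.toC0 t) * (chiQ (D.a ^ k))⁻¹ := by
    rw [eq_mul_inv_iff_mul_eq]
    refine mat_ext Q8 ?_
    rw [mat_mul, D.extW_mat, D.psiHomW_mat, chiQ_mat, chiQ_mat, hk]
  rw [e]
  exact mul_mem (chiQ_mem _) (inv_mem (chiQ_mem _))

theorem fixK_or_four {g : C0} (hg : chiQ g = 1) : g ^ 4 = 1 := by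
  refine Subtype.ext ?_
  rw [SubmonoidClass.coe_pow]
  rcases ker_chiQ.1 hg with h | h
  · exact four_of_mem_fixK h
  · have h4 := four_of_mem_fixK h
    rw [Commute.mul_pow (Subgroup.mem_center_iff.1 negCo0_mem_center (g : Co0)).symm,
      show negCo0 ^ 4 = (negCo0 ^ 2) ^ 2 by rw [← pow_mul], center_sq negCo0_mem_center, one_pow,
      one_mul] at h4
    exact h4

set_option maxHeartbeats 1600000 in
theorem exists_psiW {h : ↥(Cfsg.isometryGroup (ZMod 2) ⇑(QW m))}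
    (hh : h ∈ Cfsg.Omega (ZMod 2) ⇑(QW m)) :
    ∃ g : C0, (g : Co0) ∈ D.T ∧ D.psiW g = mat (QW m) h := by
  have := co0_finite
  have : Fact D.r.Prime := ⟨D.prime⟩
  obtain ⟨g, hg⟩ : D.extW h ∈ chiQ.range := range_chiQ.symm ▸ D.extW_omega hh
  have hgm : chiMat g = D.liftM (mat (QW m) h) := by rw [← chiQ_mat, hg]; rfl
  have hcomm : chiQ g * chiQ D.a * (chiQ g)⁻¹ = chiQ D.a := by
    rw [mul_inv_eq_iff_eq_mul]
    refine mat_ext Q8 (Matrix.ext_iff_mulVec.2 fun x => ?_)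
    rw [← D.P_pr x, mat_mul, mat_mul, chiQ_mat, chiQ_mat, ← Matrix.mulVec_mulVec,
      ← Matrix.mulVec_mulVec, D.chi_a_P, hgm, D.liftM_act, D.liftM_act, D.chi_a_P]
  set H := (Subgroup.zpowers (chiQ D.a)).comap chiQ with hH
  have haH : D.a ∈ H := Subgroup.mem_zpowers _
  have hgH : g * D.a * g⁻¹ ∈ H := by
    rw [hH, Subgroup.mem_comap, map_mul, map_mul, map_inv, hcomm]
    exact Subgroup.mem_zpowers _
  have hcardH : Nat.card H = Nat.card (chiQ.ker.subgroupOf H) * D.r := by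
    have h1 := (chiQ.ker.subgroupOf H).card_mul_index
    rw [← h1, show chiQ.ker.subgroupOf H = (chiQ.comp H.subtype).ker from rfl, Subgroup.index_ker,
      MonoidHom.range_eq_map, ← Subgroup.map_map, ← MonoidHom.range_eq_map, Subgroup.range_subtype, hH,
      Subgroup.map_comap_eq_self (Subgroup.zpowers_le.2 ⟨D.a, rfl⟩), Nat.card_zpowers]
    congr 1
    refine orderOf_eq_prime ?_ D.chi_a_ne
    rw [← map_pow, D.pow_a, map_one]
  have hcop : ¬ D.r ∣ Nat.card (chiQ.ker.subgroupOf H) := by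
    intro hd
    obtain ⟨x, hx⟩ := exists_prime_orderOf_dvd_card' D.r hd
    have h1 : ((x : H) : C0) ^ 4 = 1 := fixK_or_four x.2
    have h2 : orderOf ((x : H) : C0) = D.r := by rw [Subgroup.orderOf_coe, Subgroup.orderOf_coe, hx]
    have := orderOf_dvd_of_pow_eq_one h1
    rw [h2] at this
    exact D.two ((Nat.prime_dvd_prime_iff_eq D.prime Nat.prime_two).1
      (D.prime.dvd_of_dvd_pow (show D.r ∣ 2 ^ 2 from this)))
  have hsyl : ∀ b : C0, (hb : b ∈ H) → orderOf b = D.r →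
      Nat.card (Subgroup.zpowers (⟨b, hb⟩ : H)) = D.r ^ (Nat.card H).factorization D.r := by
    intro b hb hob
    rw [Nat.card_zpowers, Subgroup.orderOf_mk, hob, hcardH, Nat.factorization_mul Nat.card_pos.ne'
      D.prime.ne_zero, Finsupp.add_apply, Nat.factorization_eq_zero_of_not_dvd hcop,
      D.prime.factorization_self, zero_add, pow_one]
  have hoa : orderOf D.a = D.r := by rw [← Subgroup.orderOf_coe, D.orderOf_a]
  have hog : orderOf (g * D.a * g⁻¹) = D.r := by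
    rw [← hoa]; exact (orderOf_injective (MulAut.conj g).toMonoidHom (MulAut.conj g).injective D.a)
  let P1 : Sylow D.r H := Sylow.ofCard _ (hsyl _ hgH hog)
  let P2 : Sylow D.r H := Sylow.ofCard _ (hsyl _ haH hoa)
  obtain ⟨c, hc⟩ := MulAction.exists_smul_eq H P1 P2
  have hc' : (c : C0) * (g * D.a * g⁻¹) * (c : C0)⁻¹ ∈ Subgroup.zpowers D.a := by
    have h1 : c * (⟨g * D.a * g⁻¹, hgH⟩ : H) * c⁻¹ ∈ (P2 : Subgroup H) := by
      rw [← hc, Sylow.coe_subgroup_smul]
      exact Subgroup.smul_mem_pointwise_smul _ _ _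
        (show (⟨g * D.a * g⁻¹, hgH⟩ : H) ∈ (P1 : Subgroup H) from Subgroup.mem_zpowers _)
    obtain ⟨j, hj⟩ := (show _ ∈ Subgroup.zpowers (⟨D.a, haH⟩ : H) from h1)
    exact ⟨j, congrArg (fun y : H => (y : C0)) hj⟩
  obtain ⟨j, hj⟩ := hc'
  obtain ⟨i, hi⟩ : chiQ (c : C0) ∈ Subgroup.zpowers (chiQ D.a) := c.2
  have hj' : chiQ (D.a ^ j) = chiQ D.a := by
    rw [show D.a ^ j = (c : C0) * (g * D.a * g⁻¹) * (c : C0)⁻¹ from hj, map_mul, map_mul, map_mul,
      map_mul, map_inv, map_inv, hcomm, ← show chiQ D.a ^ i = chiQ (c : C0) from hi,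
      ← zpow_add_one, ← zpow_neg, ← zpow_add, show i + 1 + -i = 1 by ring, zpow_one]
  have hja : D.a ^ j = D.a := by
    have hdvd : (D.r : ℤ) ∣ j - 1 := by
      rw [show D.r = orderOf (chiQ D.a) from
        (orderOf_eq_prime (by rw [← map_pow, D.pow_a, map_one]) D.chi_a_ne).symm,
        orderOf_dvd_iff_zpow_eq_one, zpow_sub, zpow_one, ← map_zpow, hj', mul_inv_cancel]
    obtain ⟨q, hq⟩ := hdvd
    rw [show j = (D.r : ℤ) * q + 1 by omega, zpow_add_one, zpow_mul, zpow_natCast, D.pow_a, one_zpow,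
      one_mul]
  have hcT : (((c : C0) * g : C0) : Co0) ∈ D.T := by
    refine D.mem_T.2 ?_
    have e : ((c : C0) * g) * D.a * ((c : C0) * g)⁻¹ = D.a := by
      rw [show ((c : C0) * g) * D.a * ((c : C0) * g)⁻¹ = (c : C0) * (g * D.a * g⁻¹) * (c : C0)⁻¹ by group]
      exact hj.symm.trans hja
    exact congrArg (fun y : C0 => (y : Co0)) (mul_inv_eq_iff_eq_mul.1 e)
  refine ⟨(c : C0) * g, hcT, ?_⟩
  obtain ⟨n, hn⟩ : ∃ n : ℕ, chiQ (c : C0) = chiQ D.a ^ n :=
    (isOfFinOrder_of_finite (chiQ D.a)).mem_powers_iff_mem_zpowers.2 c.2 |>.imp fun _ e => e.symm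
  have hchi : chiMat ((c : C0) * g) = chiMat (D.a ^ n) * D.liftM (mat (QW m) h) := by
    rw [chiMat_mul, ← hgm, ← chiQ_mat, hn, ← map_pow, chiQ_mat]
  refine Matrix.ext_iff_mulVec.2 fun u => ?_
  have e := congrArg (fun X : Matrix I8 I8 (ZMod 2) => D.prW (X *ᵥ D.elW u)) hchi
  have hp : ∀ n : ℕ, ∀ w, chiMat D.a ^ n *ᵥ D.elW w = D.elW w := by
    intro n w
    induction n with
    | zero => rw [pow_zero, Matrix.one_mulVec]
    | succ n ih => rw [pow_succ', ← Matrix.mulVec_mulVec, ih, elW, D.chi_a_P, Matrix.mulVec_zero]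
  have hl : D.liftM (mat (QW m) h) *ᵥ D.elW u = D.elW (mat (QW m) h *ᵥ u) := by
    rw [elW, D.liftM_act]; rfl
  simp only [D.chi_elW hcT, ← Matrix.mulVec_mulVec, hl, coe_Dc_pow, hp, D.prW_elW] at e
  exact e

/-- The map onto the commutator subgroup. -/
noncomputable def psiOmega (hidx : (Cfsg.Omega (ZMod 2) ⇑(QW m)).index = 2) :
    D.Dc →* Cfsg.Omega (ZMod 2) ⇑(QW m) :=
  D.psiHomW.codRestrict _ (D.psiHomW_mem hidx)

theorem psiOmega_surjective (hidx : (Cfsg.Omega (ZMod 2) ⇑(QW m)).index = 2) :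
    Function.Surjective (D.psiOmega hidx) := by
  rintro ⟨h, hh⟩
  obtain ⟨g, hg, e⟩ := D.exists_psiW hh
  exact ⟨⟨g, g.2, hg⟩, Subtype.ext (mat_ext (QW m) e)⟩

theorem psiHomW_eq_one {t : D.Dc} :
    D.psiHomW t = 1 ↔ D.projC t ∈ D.QS := by
  constructor
  · intro h
    obtain ⟨k, hk⟩ := D.chi_decomp (g := D.toC0 t) t.2.2
    rw [show D.psiW (D.toC0 t) = 1 by rw [← D.psiHomW_mat, h, mat_one], D.liftM_one, Matrix.one_mul] at hk
    let s : D.Dc := ⟨((D.a ^ k : C0) : Co0), (D.a ^ k).2,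
      by rw [SubmonoidClass.coe_pow]; exact D.mem_T.2 ((Commute.refl _).pow_left k)⟩
    have hs : D.projC s = 1 := D.projC_eq_one.2 (Subgroup.mem_sup_left (by
      show ((D.a ^ k : C0) : Co0) ∈ _
      rw [SubmonoidClass.coe_pow]; exact pow_mem (Subgroup.mem_zpowers _) k))
    have hker : chiQ (D.toC0 (t * s⁻¹)) = 1 := by
      rw [map_mul, map_mul, map_inv, map_inv, mul_inv_eq_one]
      exact mat_ext Q8 hk
    have e : D.projC t = D.projC (t * s⁻¹) := by rw [map_mul, map_inv, hs, inv_one, mul_one]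
    rw [e]
    rcases ker_chiQ.1 hker with r | r
    · exact ⟨t * s⁻¹, r, rfl⟩
    · let ng : D.Dc := ⟨negCo0, negCo0_mem_C0, D.sup_le_T (Subgroup.mem_sup_right negCo0_mem_center)⟩
      refine ⟨ng * (t * s⁻¹), r, ?_⟩
      rw [map_mul D.projC ng, (D.projC_eq_one (t := ng)).2 (Subgroup.mem_sup_right negCo0_mem_center),
        one_mul]
  · rintro ⟨s, hs, e⟩
    have hm : (((s⁻¹ * t : D.Dc)) : Co0) ∈ D.A ⊔ Subgroup.center Co0 := D.projC_eq_one.1 (by
      rw [map_mul, map_inv, e, inv_mul_cancel])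
    have h1 : D.psiHomW s = 1 := mat_ext (QW m) (by
      rw [D.psiHomW_mat, mat_one]
      exact D.psiW_of_chi (by rw [← chiQ_mat, chiQ_fixK (g := D.toC0 s) hs, mat_one]))
    have h2 : D.psiHomW (s⁻¹ * t) = 1 := by
      obtain ⟨y, hy, c, hc, hyc⟩ := D.mem_sup.1 hm
      obtain ⟨n, rfl⟩ : ∃ n : ℕ, (D.a : Co0) ^ n = y :=
        have := co0_finite
        (isOfFinOrder_of_finite (D.a : Co0)).mem_powers_iff_mem_zpowers.2 hy
      have hcc : chiQ (D.toC0 (s⁻¹ * t)) = chiQ D.a ^ n := by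
        have hC : c ∈ C0 := D.sup_le_C0 (Subgroup.mem_sup_right hc)
        rw [show D.toC0 (s⁻¹ * t) = D.a ^ n * ⟨c, hC⟩ from Subtype.ext (by
          rw [Subgroup.coe_mul, SubmonoidClass.coe_pow]; exact hyc.symm), map_mul, map_pow]
        rcases center_cases hc with rfl | rfl
        · rw [show (⟨1, hC⟩ : C0) = 1 from rfl, map_one, mul_one]
        · rw [show (⟨negCo0, hC⟩ : C0) = negC from rfl, chiQ_negC, mul_one]
      refine mat_ext (QW m) ?_
      rw [D.psiHomW_mat, mat_one, psiW, ← chiQ_mat, hcc, ← map_pow, chiQ_mat, coe_Dc_pow]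
      have hb : ∀ n : ℕ, D.R * chiMat D.a ^ n * D.P = blk 1 (D.A' ^ n) := fun n => by
        induction n with
        | zero => rw [pow_zero, pow_zero, Matrix.mul_one, D.RP, blk_one]
        | succ n ih => rw [pow_succ, D.conj_mul', ih, D.hA, blk_mul, pow_succ, Matrix.one_mul]
      rw [hb]
      exact Matrix.toBlocks_fromBlocks₁₁ _ _ _ _
    rw [show t = s * (s⁻¹ * t) by group, map_mul, h1, h2, one_mul]

theorem nonempty_quotient (hidx : (Cfsg.Omega (ZMod 2) ⇑(QW m)).index = 2) :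
    Nonempty (D.CS ⧸ D.QS ≃* Cfsg.Omega (ZMod 2) ⇑(QW m)) := by
  have hker : ((QuotientGroup.mk' D.QS).comp D.projC).ker = (D.psiOmega hidx).ker := by
    ext t
    rw [MonoidHom.mem_ker, MonoidHom.mem_ker, MonoidHom.comp_apply, QuotientGroup.mk'_apply,
      QuotientGroup.eq_one_iff, ← D.psiHomW_eq_one]
    exact ⟨fun h => Subtype.ext h, fun h => congrArg Subtype.val h⟩
  exact ⟨((QuotientGroup.quotientKerEquivOfSurjective ((QuotientGroup.mk' D.QS).comp D.projC)
    ((QuotientGroup.mk'_surjective D.QS).comp D.projC_surjective)).symm.trans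
    (QuotientGroup.quotientMulEquivOfEq hker)).trans
    (QuotientGroup.quotientKerEquivOfSurjective (D.psiOmega hidx) (D.psiOmega_surjective hidx))⟩

/-! ### The generalized Fitting subgroup -/

theorem centralizer_QS : Subgroup.centralizer (D.QS : Set D.CS) ≤ D.QS := by
  intro x hx
  obtain ⟨t, rfl⟩ := D.projC_surjective x
  refine D.psiHomW_eq_one.1 (mat_ext (QW m) ?_)
  rw [D.psiHomW_mat, mat_one]
  refine Matrix.ext_iff_mulVec.2 fun u => ?_
  obtain ⟨y, hy, e⟩ := D.exists_Qa u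
  let s : D.Dc := ⟨y, fixK_le_C0 hy.1, hy.2⟩
  have hs : D.projC (t * s * t⁻¹) = D.projC s := by
    have h1 := Subgroup.mem_centralizer_iff.1 hx (D.projC s) ⟨s, hy.1, rfl⟩
    rw [map_mul, map_mul, map_inv, ← h1, mul_inv_cancel_right]
  have h2 := congrArg (fun v : D.Dc => (v : Co0))
    (D.fixK_eq_of_proj (conj_fixK (D.toC0 t) hy.1) hy.1 hs)
  have h3 := chiMat_gc (D.toC0 t) hy.1
  change ((t : Co0) * y * (t : Co0)⁻¹ = y) at h2
  change chiMat (D.toC0 t) *ᵥ gc y = gc ((t : Co0) * y * (t : Co0)⁻¹) at h3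
  rw [h2, e, D.chi_elW (g := D.toC0 t) t.2.2] at h3
  have h4 := congrArg D.prW h3
  rw [D.prW_elW, D.prW_elW] at h4
  rw [h4, Matrix.one_mulVec]

theorem generalizedFitting_eq (hidx : (Cfsg.Omega (ZMod 2) ⇑(QW m)).index = 2)
    (hs : IsSimpleGroup (Cfsg.Omega (ZMod 2) ⇑(QW m)))
    (hc : Subgroup.center (Cfsg.Omega (ZMod 2) ⇑(QW m)) = ⊥) :
    Cfsg.generalizedFittingSubgroup D.CS = D.QS := by
  have := co0_finite
  have hQ2 : IsPGroup 2 D.QS := IsPGroup.of_card D.card_QS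
  have hQF : D.QS ≤ Cfsg.fittingSubgroup D.CS := CfsgLib.Components.le_fittingSubgroup hQ2.isNilpotent
  have hFQ : Cfsg.fittingSubgroup D.CS ≤ D.QS := by
    have : (Cfsg.fittingSubgroup D.CS).Normal := CfsgLib.Solvable.fittingSubgroup_normal
    have : Group.IsNilpotent (Cfsg.fittingSubgroup D.CS) := CfsgLib.Solvable.fittingSubgroup_isNilpotent
    obtain ⟨e⟩ := D.nonempty_quotient hidx
    let f : D.CS →* Cfsg.Omega (ZMod 2) ⇑(QW m) := e.toMonoidHom.comp (QuotientGroup.mk' D.QS)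
    have hf : Function.Surjective f := e.surjective.comp (QuotientGroup.mk'_surjective D.QS)
    intro x hx
    rcases (Subgroup.Normal.map (H := Cfsg.fittingSubgroup D.CS) inferInstance f hf).eq_bot_or_eq_top
      with h | h
    · have h1 : f x = 1 := Subgroup.mem_bot.1 (h ▸ Subgroup.mem_map_of_mem f hx)
      exact (QuotientGroup.eq_one_iff x).1 (e.map_eq_one_iff.1 h1)
    · exfalso
      let f' : Cfsg.fittingSubgroup D.CS →* Cfsg.Omega (ZMod 2) ⇑(QW m) :=
        f.comp (Cfsg.fittingSubgroup D.CS).subtype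
      have hf' : Function.Surjective f' := fun y => by
        obtain ⟨a, ha, rfl⟩ : y ∈ (Cfsg.fittingSubgroup D.CS).map f := h ▸ Subgroup.mem_top y
        exact ⟨⟨a, ha⟩, rfl⟩
      have := Group.nilpotent_of_surjective f' hf'
      have := hs.toNontrivial
      exact Group.IsNilpotent.center_ne_bot (Cfsg.Omega (ZMod 2) ⇑(QW m)) hc
  refine le_antisymm (sup_le ?_ hFQ) (hQF.trans le_sup_right)
  exact CfsgLib.Components.layer_le_centralizer_fittingSubgroup.trans
    ((Subgroup.centralizer_le (SetLike.coe_subset_coe.2 hQF)).trans D.centralizer_QS)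

/-! ### Irreducibility -/

theorem irreducible (hidx : (Cfsg.Omega (ZMod 2) ⇑(QW m)).index = 2) (W : Subgroup D.CS)
    (hW : W.Normal) (hWQ : W ≤ D.QS) :
    W = D.QS ∨ ∀ x ∈ W, (x : D.S) ∈ Subgroup.zpowers D.zS := by
  let U : Set (IW m → ZMod 2) := {u | ∃ t : D.Dc, (t : Co0) ∈ fixK ∧ D.projC t ∈ W ∧ gc t = D.elW u}
  have hadd : ∀ u ∈ U, ∀ v ∈ U, u + v ∈ U := by
    rintro u ⟨s, hs, hsW, es⟩ v ⟨t, ht, htW, et⟩
    exact ⟨s * t, mul_mem hs ht, by rw [map_mul]; exact mul_mem hsW htW,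
      by rw [Subgroup.coe_mul, gc_mul hs ht, es, et, D.elW_add]⟩
  have hinv : ∀ h ∈ Cfsg.Omega (ZMod 2) ⇑(QW m), ∀ u ∈ U, mat (QW m) h *ᵥ u ∈ U := by
    rintro h hh u ⟨s, hs, hsW, es⟩
    obtain ⟨g, hg, e⟩ := D.exists_psiW hh
    let t : D.Dc := ⟨g, g.2, hg⟩
    refine ⟨t * s * t⁻¹, conj_fixK g hs, by rw [map_mul, map_mul, map_inv]; exact hW.conj_mem _ hsW _, ?_⟩
    rw [← e, ← D.chi_elW hg, ← es, chiMat_gc g hs]
    rfl
  by_cases h0 : ∀ u ∈ U, u = 0
  · refine Or.inr fun x hx => ?_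
    obtain ⟨t, ht, rfl⟩ := hWQ hx
    have ht' : (t : Co0) ∈ fixK := ht
    have hg := (D.commute_a_iff ht').1 t.2.2
    have hu := h0 (D.prW (gc t)) ⟨t, ht', hx, hg⟩
    rw [hu, D.elW_zero] at hg
    rcases gc_eq_zero ht' hg with r | r
    · rw [D.projC_coe, show (⟨(t : Co0), t.2.2⟩ : D.T) = 1 from Subtype.ext r, map_one]
      exact one_mem _
    · rw [D.projC_coe, show (⟨(t : Co0), t.2.2⟩ : D.T) = ⟨wElt, D.wElt_mem_T⟩ from Subtype.ext r,
        D.proj_wElt]
      exact Subgroup.mem_zpowers _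
  · left
    push Not at h0
    obtain ⟨x, hxU, hx0⟩ := h0
    obtain ⟨⟨v, hv, hxv⟩, hall⟩ := D.irr x hx0
    -- a vector of norm one not perpendicular to a member is a member
    have hstep : ∀ y ∈ U, y ≠ 0 → ∀ u, Cfsg.quadFormMinus m (ZMod 2) 1 1 u = 1 → polW m y u = 1 →
        u ∈ U := by
      intro y hy hy0 u hu hyu
      obtain ⟨⟨v, hv, hyv⟩, -⟩ := D.irr y hy0
      have hu' : QW m u = 1 := by rw [minusQ_apply]; exact hu
      have hv' : QW m v = 1 := by rw [minusQ_apply]; exact hv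
      have := hadd _ (hinv _ (D.tv_mul_mem hidx hu' hv') y hy) _ hy
      rw [mat_mul, ← Matrix.mulVec_mulVec, tv_apply _ hv', QuadraticMap.polar_comm, polar_QW, hyv,
        zero_smul, add_zero, tv_apply _ hu', QuadraticMap.polar_comm, polar_QW, hyu, one_smul,
        add_comm y u, add_assoc, ← two_smul (ZMod 2) y, show (2 : ZMod 2) = 0 by decide, zero_smul,
        add_zero] at this
      exact this
    have hns : ∀ e, Cfsg.quadFormMinus m (ZMod 2) 1 1 e = 1 → e ∈ U := by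
      intro e he
      rcases hall e he with h | ⟨u, hu, hxu, hue⟩
      · exact hstep x hxU hx0 e he h
      · refine hstep u (hstep x hxU hx0 u hu hxu) (fun h => ?_) e he hue
        rw [h] at hu
        exact absurd hu (by rw [← minusQ_apply, QuadraticMap.map_zero]; decide)
    have hU : ∀ e, e ∈ U := by
      intro e
      obtain ⟨u, hu, rfl | h⟩ := D.two_sum e
      · exact hns u hu
      · have := hadd _ (hns _ h) _ (hns _ hu)
        rwa [add_assoc, ← two_smul (ZMod 2) u, show (2 : ZMod 2) = 0 by decide, zero_smul,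
          add_zero] at this
    -- the commutator of two members
    have hw : ∀ (t : D.Dc), (t : Co0) = wElt → D.projC t ∈ W := by
      intro t ht
      obtain ⟨p, hp, q, hq, hpq⟩ := D.Qa_noncomm
      obtain ⟨p', hp', hpW, ep⟩ := hU (D.prW (gc p))
      obtain ⟨q', hq', hqW, eq⟩ := hU (D.prW (gc q))
      rw [← (D.commute_a_iff hp.1).1 hp.2] at ep
      rw [← (D.commute_a_iff hq.1).1 hq.2] at eq
      have hnc : ¬ Commute (p' : Co0) (q' : Co0) := by
        rw [polar_gc hp' hq', ep, eq, ← polar_gc hp.1 hq.1]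
        exact hpq
      have e := (commute_or_mul_w hp' hq').resolve_left hnc
      have e2 : t = (q' * p')⁻¹ * (p' * q') := Subtype.ext (by
        rw [ht]
        simp only [Subgroup.coe_mul, Subgroup.coe_inv]
        rw [e, inv_mul_cancel_left])
      rw [e2, map_mul, map_inv, map_mul, map_mul]
      exact mul_mem (inv_mem (mul_mem hqW hpW)) (mul_mem hpW hqW)
    refine le_antisymm hWQ ?_
    rintro _ ⟨t, ht, rfl⟩
    have ht' : (t : Co0) ∈ fixK := ht
    obtain ⟨s, hs, hsW, es⟩ := hU (D.prW (gc t))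
    rw [← (D.commute_a_iff ht').1 t.2.2] at es
    rcases (gc_eq_iff hs ht').1 es with r | r
    · rwa [show t = s from Subtype.ext r]
    · rw [show t = s * ⟨wElt, fixK_le_C0 wElt_mem, D.wElt_mem_T⟩ from Subtype.ext r, map_mul]
      exact mul_mem hsW (hw _ rfl)

/-- The section. -/
theorem exists_section (hidx : (Cfsg.Omega (ZMod 2) ⇑(QW m)).index = 2)
    (hs : IsSimpleGroup (Cfsg.Omega (ZMod 2) ⇑(QW m)))
    (hc : Subgroup.center (Cfsg.Omega (ZMod 2) ⇑(QW m)) = ⊥) (hm : 1 ≤ m) :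
    ∃ A : Subgroup Co0, Nat.card A = D.r ∧
      ∃ (_ : ((A ⊔ Subgroup.center Co0).subgroupOf (Subgroup.centralizer (A : Set Co0))).Normal),
      ∃ (S : Type) (_ : Group S) (_ : Finite S),
        Nonempty (S ≃* ↥(Subgroup.centralizer (A : Set Co0)) ⧸
          (A ⊔ Subgroup.center Co0).subgroupOf (Subgroup.centralizer (A : Set Co0))) ∧
        IsSimpleGroup S ∧ ¬ IsMulCommutative S ∧ ∃ z : S, orderOf z = 2 ∧
        ∃ (Q : Subgroup (Subgroup.centralizer ({z} : Set S))) (_ : Q.Normal),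
          Cfsg.generalizedFittingSubgroup (Subgroup.centralizer ({z} : Set S)) = Q ∧
          Cfsg.IsExtraspecial 2 Q ∧ Nat.card Q = 2 ^ (2 * m + 3) ∧
          Nonempty ((Subgroup.centralizer ({z} : Set S)) ⧸ Q ≃*
            Cfsg.Omega (ZMod 2) (Cfsg.quadFormMinus m (ZMod 2) 1 1)) ∧
          ∃ g : S, (∃ hq : g * z * g⁻¹ ∈ Subgroup.centralizer ({z} : Set S),
            (⟨g * z * g⁻¹, hq⟩ : Subgroup.centralizer ({z} : Set S)) ∈ Q) ∧ g * z * g⁻¹ ≠ z := by
  have := co0_finite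
  have : Finite D.S := Quotient.finite _
  obtain ⟨e⟩ := D.nonempty_quotient hidx
  have := hs
  have hsimp : IsSimpleGroup (D.CS ⧸ D.QS) := e.isSimpleGroup
  refine ⟨D.A, D.card_A, D.M_normal, D.S, inferInstance, inferInstance, ⟨MulEquiv.refl _⟩, ?_, ?_,
    D.zS, D.orderOf_zS, D.QS, D.QS_normal, D.generalizedFitting_eq hidx hs hc, D.extraspecial_QS,
    D.card_QS, ?_, D.not_weakly_closed⟩
  · refine isSimpleGroup_of_irreducible D.orderOf_zS D.QS (D.generalizedFitting_eq hidx hs hc)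
      D.extraspecial_QS ?_ D.not_weakly_closed hsimp (D.irreducible hidx)
    rw [D.card_QS]
    exact le_trans (by norm_num) (Nat.pow_le_pow_right (n := 2) (by norm_num) (show 5 ≤ 2 * m + 3 by omega))
  · intro hcomm
    obtain ⟨p, hp, q, hq, hpq⟩ := D.Qa_noncomm
    let p' : D.Dc := ⟨p, fixK_le_C0 hp.1, hp.2⟩
    let q' : D.Dc := ⟨q, fixK_le_C0 hq.1, hq.2⟩
    refine hpq (congrArg (fun v : D.Dc => (v : Co0)) (D.fixK_eq_of_proj (x := p' * q') (y := q' * p')
      (mul_mem hp.1 hq.1) (mul_mem hq.1 hp.1) (Subtype.ext ?_)))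
    rw [map_mul, map_mul, Subgroup.coe_mul, Subgroup.coe_mul]
    exact mul_comm' _ _
  · rw [← coe_minusQ]
    exact ⟨e⟩

end SecData

end CfsgLib.CoOneSection
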