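import Cfsg.Agent.CoOneSection.Build

/-!
An element of order three of the lattice group commuting with the octad involution, with its section data.
-/

set_option autoImplicit false

namespace CfsgLib.CoOneSection.Suz

open Cfsg CfsgLib.Leech CfsgLib.CoOneInv
open scoped Matrix

/-- Moves for the element. -/
def aMoves : List Mv :=
  [.mono 343857083568768520306727134883654021303182043802281116161 14575325,
    .xi,
    .mono 74620124467900609331343058016788451952869455792238100741 10411253]

/-- Moves for an element commuting with it. -/
def gMoves : List Mv :=
  [.mono 418854309056287477719810875402257052829212594035186860801 2862560,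
    .mono 49907530414886821357892702310895919630278704278839689486 15732454,
    .mono 26537347589445598091484031324636530520391471325659988741 3322370,
    .mono 566073426779046459040877649791461066728553822781039575296 1161408,
    .mono 221070357916720600427488097859210698486553245305231053576 0]

/-- Conjugates of the basis. -/
def yList : List (Fin 16 × Fin 32) :=
  [(0, 1), (13, 11), (13, 14), (9, 19), (1, 0), (5, 17), (5, 7), (0, 17)]

/-- Columns of the adapted basis. -/
def pCols : List ℕ := [1, 6, 16, 44, 98, 138, 106, 142]

/-- Columns of its inverse. -/
def rCols : List ℕ := [1, 162, 160, 80, 4, 248, 74, 210]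

/-- Columns of the action on the moved coordinates. -/
def aCols : List ℕ := [2, 3]

set_option synthInstance.maxSize 4000
set_option synthInstance.maxHeartbeats 400000

/-- The checks. -/
theorem spec : dataOK 3 aMoves gMoves yList (0, 1) = true := by decide +kernel

theorem alg : algOK 2 2 3 yList pCols rCols aCols := by
  refine ⟨?_, ?_, ?_, ?_, ?_, ?_, ?_, ?_, ?_, ?_⟩ <;> decide +kernel

/-- The section data. -/
noncomputable def data : SecData 2 2 :=
  mkData (by norm_num : Nat.Prime 3) (by norm_num) spec (by decide +kernel) alg

end CfsgLib.CoOneSection.Suz
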